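import Cfsg.Agent.H98.Held.Classify
import Cfsg.Agent.S0215

/-!
In a simple group the central involution has a conjugate in one of the two classes of transvections inside the
extraspecial group.
-/

set_option autoImplicit false
set_option maxRecDepth 100000

namespace Cfsg.Agent.H25.Held

open Subgroup Cfsg.Agent.H98.Held

theorem dead_check : ([4, 8, 12, 16, 20, 24, 28].all fun m =>
    !((zSet aOne m).all fun a => Nat.beq (zCnt aOne m a) (zCnt aOne m zT)) ||
    !((zSet aTwo m).all fun a => Nat.beq (zCnt aTwo m a) (zCnt aTwo m zT))) = true := by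
  decide +kernel

universe u

variable {G : Type u} [Group G] [Finite G] (B : Emb G)

/-- If none of the other classes is fused to the central involution, it has no other conjugate in its centraliser. -/
theorem isolated (h : ∀ k < 8, B.IsZ (rep k) ↔ inK 0 k = true) (g : G)
    (hg : g * B.z * g⁻¹ ∈ centralizer ({B.z} : Set G)) : g * B.z * g⁻¹ = B.z := by
  obtain ⟨p, hp, hpe⟩ := B.exists_code (mem_centralizer_singleton_iff.1 hg)
  have hp2 : mm p p = oneC := (B.lf_sq_one hp).1 (by
    rw [hpe, show g * B.z * g⁻¹ * (g * B.z * g⁻¹) = g * (B.z * B.z) * g⁻¹ by group, B.z_sq]; group)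
  have hp1 : p ≠ oneC := fun e => B.z_ne (by
    rw [e, B.lf_one] at hpe; exact (conj_eq_one_iff).1 hpe.symm)
  have hz : B.IsZ p := isConj_iff.2 ⟨g, hpe.symm⟩
  have hk := (h _ (cls_lt hp hp2 hp1)).1 ((B.isZ_iff hp hp2 hp1).1 hz)
  simp [inK] at hk
  obtain ⟨d, hd, hde⟩ := B.conj_rep hp hp2 hp1
  rw [hk, rep_check.2.1, B.lf_z, B.lf_comm_z hd, mul_inv_cancel_right] at hde
  rw [← hpe, hde]

/-- The central involution is not weakly closed in the extraspecial group of its centraliser. -/
theorem isZ_one_or_two [IsSimpleGroup G] : B.IsZ (rep 1) ∨ B.IsZ (rep 2) := by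
  obtain ⟨m, hm32, hm⟩ := B.exists_mask
  rcases Classical.em (B.IsZ (rep 1) ∨ B.IsZ (rep 2)) with h | h
  · exact h
  exfalso
  push_neg at h
  have h1 : m % 2 = 0 := by
    by_contra hh
    refine h.1 ((hm 1 (by norm_num)).2 ?_)
    simp [inK, Nat.testBit_eq_decide_div_mod_eq]
    omega
  have h2 : m / 2 % 2 = 0 := by
    by_contra hh
    refine h.2 ((hm 2 (by norm_num)).2 ?_)
    simp [inK, Nat.testBit_eq_decide_div_mod_eq]
    omega
  rcases Nat.eq_zero_or_pos m with rfl | hpos
  · haveI : Fact (Nat.Prime 2) := ⟨Nat.prime_two⟩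
    obtain ⟨T, hT⟩ := B.exists_sylow
    have hzA : B.z ∈ B.gA := (B.mem_blockGrp block_one.1).2 ⟨zT, block_one.1.hz, B.lf_z⟩
    have hzT : B.z ∈ T := show B.z ∈ (T : Subgroup G) from hT ▸ B.gA_le_sg hzA
    have hord : orderOf B.z = 2 := orderOf_eq_prime (by rw [pow_two]; exact B.z_sq) B.z_ne
    obtain ⟨N, hN, hodd, hcom⟩ := Cfsg.Agent.S0215.result T B.z hord hzT fun g hg =>
      isolated B hm g (B.sg_le (hT ▸ hg))
    have hzc : ∀ g : G, g * B.z = B.z * g := by
      rcases hN.eq_bot_or_eq_top with e | e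
      · intro g
        have h := hcom g
        rw [e, mem_bot] at h
        calc g * B.z = (B.z * g * B.z⁻¹ * g⁻¹) * (g * B.z) := by rw [h, one_mul]
          _ = B.z * g := by group
      · exfalso
        rw [e, Subgroup.card_top] at hodd
        have h2 : orderOf B.z ∣ Nat.card G := orderOf_dvd_natCard B.z
        rw [hord] at h2
        exact (Nat.not_even_iff_odd.mpr hodd) (even_iff_two_dvd.mpr h2)
    have hn : (zpowers B.z).Normal := by
      refine ⟨fun x hx g => ?_⟩
      obtain ⟨i, rfl⟩ := mem_zpowers_iff.1 hx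
      have hc : Commute g B.z := hzc g
      rw [(hc.zpow_right i).eq, mul_inv_cancel_right]
      exact zpow_mem (mem_zpowers B.z) i
    rcases hn.eq_bot_or_eq_top with e | e
    · exact B.z_ne (mem_bot.1 (e ▸ mem_zpowers B.z))
    · have hc : Nat.card G = 2 := by
        rw [← hord, ← Nat.card_zpowers, e, Subgroup.card_top]
      have := B.card_blockGrp block_one.1
      have hle : Nat.card (B.blockGrp aOne) ≤ Nat.card G := card_le_card_group _
      omega
  · have hmem : m ∈ [4, 8, 12, 16, 20, 24, 28] := by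
      simp only [List.mem_cons, List.not_mem_nil, or_false]
      omega
    have hd := List.all_eq_true.1 dead_check m hmem
    rw [Bool.or_eq_true, Bool.not_eq_true', Bool.not_eq_true'] at hd
    rcases hd with hd | hd
    · rw [← Bool.not_eq_true, List.all_eq_true] at hd
      exact hd fun a ha => Nat.beq_eq ▸ B.zCnt_const block_one.1 hm (fun x hx hc => B.orbit_gA hx hc) ha
    · rw [← Bool.not_eq_true, List.all_eq_true] at hd
      exact hd fun a ha => Nat.beq_eq ▸ B.zCnt_const block_two.1 hm (fun x hx hc => B.orbit_gB hx hc) ha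

/-- The fusion in a simple group is one of six. -/
theorem exists_live_mask_simple [IsSimpleGroup G] :
    ∃ m ∈ liveMasks, ∀ k < 8, B.IsZ (rep k) ↔ inK m k = true :=
  B.exists_live_mask (isZ_one_or_two B)

end Cfsg.Agent.H25.Held
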