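import Cfsg.Agent.H45.CosetPres

/-!
Generated certificate: 3 cosets of the first 4 letters among 5 involution letters (Held completion).
-/

set_option autoImplicit false

namespace Cfsg.Agent.H25.Held.He1

open Cfsg.Agent.H45

/-- relator words -/
def rels : List (List ℕ) := [
  [0, 1, 0, 1],
  [2, 4, 2, 4],
  [3, 4, 3, 4],
  [1, 4, 1, 4, 1, 4],
  [0, 1, 3, 1, 4, 0, 1, 3, 1, 4],
  [1, 2, 1, 2, 3, 4, 1, 2, 1, 4, 3],
  [4, 0, 4, 1, 2, 0, 2, 1, 3, 1, 2, 0, 2, 1, 0]]

/-- packed columns -/
def cols : List ℕ := [
  0x200010000,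
  0x100020000,
  0x200010000,
  0x200010000,
  0x200000001]

/-- packed tree -/
def tree : List ℕ := [
  0x800101800004]

/-- deductions -/
def blks : List Blk := [
  .gaps 0x80000010078000100002800000180180000014078000000c03800000080280000004028000002800800000240080000020008000001c00]

end Cfsg.Agent.H25.Held.He1
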