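import Cfsg.Agent.H25.Held.Chain
import Cfsg.Agent.H25.Held.HeData1

/-!
Kernel check of a generated coset certificate.
-/

set_option autoImplicit false
set_option Elab.async false
set_option maxRecDepth 100000

namespace Cfsg.Agent.H25.Held.He1

open Cfsg.Agent.H45

theorem close_ok : closeCheck ⟨5, List.range 5, cols, rels, low 4⟩ 3 tree blks = true := by decide +kernel

theorem lt_ok0 : colOK (cols.getD 0 0) (cols.getD 0 0) 3 3 = true := by decide +kernel

theorem lt_ok1 : colOK (cols.getD 1 0) (cols.getD 1 0) 3 3 = true := by decide +kernel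

theorem lt_ok2 : colOK (cols.getD 2 0) (cols.getD 2 0) 3 3 = true := by decide +kernel

theorem lt_ok3 : colOK (cols.getD 3 0) (cols.getD 3 0) 3 3 = true := by decide +kernel

theorem lt_ok4 : colOK (cols.getD 4 0) (cols.getD 4 0) 3 3 = true := by decide +kernel

theorem lt_ok : ∀ l, l < 5 → ∀ i, i < 3 → tget cols i l < 3 := by
  intro l hl i hi
  interval_cases l
  · exact (colOK_sound lt_ok0 i hi).1
  · exact (colOK_sound lt_ok1 i hi).1
  · exact (colOK_sound lt_ok2 i hi).1
  · exact (colOK_sound lt_ok3 i hi).1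
  · exact (colOK_sound lt_ok4 i hi).1

theorem rels_lt : ∀ w ∈ rels, ∀ l ∈ w, l < 5 := by decide +kernel

end Cfsg.Agent.H25.Held.He1
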