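import Cfsg.Agent.H25.Held.Chain
import Cfsg.Agent.H25.Held.HeData3

/-!
Kernel check of a generated coset certificate, in segments.
-/

set_option autoImplicit false
set_option Elab.async false
set_option maxRecDepth 100000

namespace Cfsg.Agent.H25.Held.He3

open Cfsg.Agent.H45

theorem t4_ok : treeSeg dat t4 kt3 15201 kt4 19001 = true := by decide +kernel

theorem t5_ok : treeSeg dat t5 kt4 19001 kt5 22801 = true := by decide +kernel

theorem t6_ok : treeSeg dat t6 kt5 22801 kt6 26601 = true := by decide +kernel

theorem t7_ok : treeSeg dat t7 kt6 26601 kt7 29155 = true := by decide +kernel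

end Cfsg.Agent.H25.Held.He3
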