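import Cfsg.Agent.H25.Held.Chain
import Cfsg.Agent.H25.Held.HeData3

/-!
Kernel check of a generated coset certificate, in segments.
-/

set_option autoImplicit false
set_option Elab.async false
set_option maxRecDepth 100000

namespace Cfsg.Agent.H25.Held.He3

open Cfsg.Agent.H45

theorem b0_ok : segCheck dat b0 kt7 kb0 = true := by decide +kernel

theorem b1_ok : segCheck dat b1 kb0 kb1 = true := by decide +kernel

theorem b2_ok : segCheck dat b2 kb1 kb2 = true := by decide +kernel

theorem b3_ok : segCheck dat b3 kb2 kb3 = true := by decide +kernel

end Cfsg.Agent.H25.Held.He3
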