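import Cfsg.Agent.H25.Held.Chain
import Cfsg.Agent.H25.Held.HeData3

/-!
Kernel check of a generated coset certificate, in segments.
-/

set_option autoImplicit false
set_option Elab.async false
set_option maxRecDepth 100000

namespace Cfsg.Agent.H25.Held.He3

open Cfsg.Agent.H45

theorem b4_ok : segCheck dat b4 kb3 kb4 = true := by decide +kernel

theorem b5_ok : segCheck dat b5 kb4 kb5 = true := by decide +kernel

theorem b6_ok : segCheck dat b6 kb5 kb6 = true := by decide +kernel

theorem b7_ok : segCheck dat b7 kb6 kb7 = true := by decide +kernel

end Cfsg.Agent.H25.Held.He3
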