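import Cfsg.Agent.H25.Held.Chain
import Cfsg.Agent.H25.Held.HeData3

/-!
Kernel check of a generated coset certificate, in segments.
-/

set_option autoImplicit false
set_option Elab.async false
set_option maxRecDepth 100000

namespace Cfsg.Agent.H25.Held.He3

open Cfsg.Agent.H45

theorem b8_ok : segCheck dat b8 kb7 kb8 = true := by decide +kernel

theorem b9_ok : segCheck dat b9 kb8 kb9 = true := by decide +kernel

theorem b10_ok : segCheck dat b10 kb9 kb10 = true := by decide +kernel

theorem b11_ok : segCheck dat b11 kb10 kb11 = true := by decide +kernel

end Cfsg.Agent.H25.Held.He3
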