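import Cfsg.Agent.H25.Held.Chain
import Cfsg.Agent.H25.Held.HeData3

/-!
Kernel check of a generated coset certificate, in segments.
-/

set_option autoImplicit false
set_option Elab.async false
set_option maxRecDepth 100000

namespace Cfsg.Agent.H25.Held.He3

open Cfsg.Agent.H45

theorem b12_ok : segCheck dat b12 kb11 kb12 = true := by decide +kernel

theorem b13_ok : segCheck dat b13 kb12 kb13 = true := by decide +kernel

theorem b14_ok : segCheck dat b14 kb13 kb14 = true := by decide +kernel

theorem b15_ok : segCheck dat b15 kb14 kb15 = true := by decide +kernel

end Cfsg.Agent.H25.Held.He3
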