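import Cfsg.Agent.H25.Held.Chain
import Cfsg.Agent.H25.Held.HeData3

/-!
Kernel check of a generated coset certificate, in segments.
-/

set_option autoImplicit false
set_option Elab.async false
set_option maxRecDepth 100000

namespace Cfsg.Agent.H25.Held.He3

open Cfsg.Agent.H45

theorem b16_ok : segCheck dat b16 kb15 kb16 = true := by decide +kernel

theorem b17_ok : segCheck dat b17 kb16 kb17 = true := by decide +kernel

theorem b18_ok : segCheck dat b18 kb17 kb18 = true := by decide +kernel

theorem b19_ok : segCheck dat b19 kb18 kb19 = true := by decide +kernel

end Cfsg.Agent.H25.Held.He3
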