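import Cfsg.Agent.H25.Held.HeSeg0
import Cfsg.Agent.H25.Held.HeSeg1
import Cfsg.Agent.H25.Held.HeSeg2
import Cfsg.Agent.H25.Held.HeSeg3
import Cfsg.Agent.H25.Held.HeSeg4
import Cfsg.Agent.H25.Held.HeSeg5
import Cfsg.Agent.H25.Held.HeSeg6

/-!
Kernel check of a generated coset certificate, in segments.
-/

set_option autoImplicit false
set_option Elab.async false
set_option maxRecDepth 100000

namespace Cfsg.Agent.H25.Held.He3

open Cfsg.Agent.H45

theorem full_ok : Nat.beq (kb19 >>> 64) (2 ^ (29155 * 7) - 1) = true := by decide +kernel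

theorem lt_ok0 : colOK (cols.getD 0 0) (cols.getD 0 0) 29155 29155 = true := by decide +kernel

theorem lt_ok1 : colOK (cols.getD 1 0) (cols.getD 1 0) 29155 29155 = true := by decide +kernel

theorem lt_ok2 : colOK (cols.getD 2 0) (cols.getD 2 0) 29155 29155 = true := by decide +kernel

theorem lt_ok3 : colOK (cols.getD 3 0) (cols.getD 3 0) 29155 29155 = true := by decide +kernel

theorem lt_ok4 : colOK (cols.getD 4 0) (cols.getD 4 0) 29155 29155 = true := by decide +kernel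

theorem lt_ok5 : colOK (cols.getD 5 0) (cols.getD 5 0) 29155 29155 = true := by decide +kernel

theorem lt_ok6 : colOK (cols.getD 6 0) (cols.getD 6 0) 29155 29155 = true := by decide +kernel

theorem lt_ok : ∀ l, l < 7 → ∀ i, i < 29155 → tget cols i l < 29155 := by
  intro l hl i hi
  interval_cases l
  · exact (colOK_sound lt_ok0 i hi).1
  · exact (colOK_sound lt_ok1 i hi).1
  · exact (colOK_sound lt_ok2 i hi).1
  · exact (colOK_sound lt_ok3 i hi).1
  · exact (colOK_sound lt_ok4 i hi).1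
  · exact (colOK_sound lt_ok5 i hi).1
  · exact (colOK_sound lt_ok6 i hi).1

theorem rels_lt : ∀ w ∈ rels, ∀ l ∈ w, l < 7 := by decide +kernel

theorem tree_ok : TreeSegsOK dat 0 1
    [(t0, kt0, 3801), (t1, kt1, 7601), (t2, kt2, 11401), (t3, kt3, 15201), (t4, kt4, 19001), (t5, kt5, 22801), (t6, kt6, 26601), (t7, kt7, 29155)] kt7 29155 :=
  ⟨t0_ok, t1_ok, t2_ok, t3_ok, t4_ok, t5_ok, t6_ok, t7_ok, rfl, rfl⟩

theorem segs_ok : SegsOK dat kt7
    [(b0, kb0), (b1, kb1), (b2, kb2), (b3, kb3), (b4, kb4), (b5, kb5), (b6, kb6), (b7, kb7), (b8, kb8), (b9, kb9), (b10, kb10), (b11, kb11), (b12, kb12), (b13, kb13), (b14, kb14), (b15, kb15), (b16, kb16), (b17, kb17), (b18, kb18), (b19, kb19)] kb19 :=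
  ⟨b0_ok, b1_ok, b2_ok, b3_ok, b4_ok, b5_ok, b6_ok, b7_ok, b8_ok, b9_ok, b10_ok, b11_ok, b12_ok, b13_ok, b14_ok, b15_ok, b16_ok, b17_ok, b18_ok, b19_ok, rfl⟩

end Cfsg.Agent.H25.Held.He3
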