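import Cfsg.Agent.H25.Held.HeData0
import Cfsg.Agent.H25.Held.HeData1
import Cfsg.Agent.H25.Held.HeData2
import Cfsg.Agent.H25.Held.HeData3

/-!
Generated words identifying the He completion with the presented Held group.
-/

set_option autoImplicit false

namespace Cfsg.Agent.H25.Held

/-- all relators of the completion -/
def heRels : List (List ℕ) := He0.rels ++ He1.rels ++ He2.rels ++ He3.rels

/-- images of the letters as words in the generators of He -/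
def heImg : List (List ℕ) := [
  [0, 6],
  [0, 4, 2],
  [1, 2, 3, 4, 5, 3, 2, 3, 5, 4, 3, 1],
  [1, 0, 1],
  [0, 2, 1, 0, 2],
  [3, 2, 3, 2, 1, 5, 3, 2, 1, 0, 3, 4, 5, 3, 2, 3, 5, 1, 2, 3, 2, 3, 4],
  [1, 2, 3, 4, 5, 3, 2, 3, 5, 4, 3, 1, 0, 1, 3, 4, 6, 3, 2, 3, 6, 4, 3, 1, 3, 4, 5, 3, 2, 3, 5, 4, 3, 1, 3, 4, 6, 3, 2, 3, 6, 4, 3, 1, 1, 2, 3, 4, 5, 3, 2, 3, 5, 4, 3, 1, 0, 5]]

/-- the generators of He as words in the letters -/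
def heBack : List (List ℕ) := [
  [4, 1, 3, 1, 4],
  [1, 4, 1],
  [3, 1, 3],
  [0, 2, 1, 4, 6, 4, 3, 4, 1, 6, 2, 0, 1, 4, 5, 3, 4, 1, 6, 2, 0, 1, 4, 0, 2, 1, 4, 6, 4, 5, 4, 6, 4, 1, 2, 0, 4, 0, 1, 2, 1, 6, 3, 4, 5, 0, 3, 4, 0, 4, 5, 4, 3, 6, 1, 2, 1, 0, 4, 0, 2, 1, 4, 6, 4, 5, 4, 6, 4, 1, 2, 0, 4, 1, 0, 2, 6, 1, 4, 3, 5, 4, 1, 0, 2, 6, 1, 4, 3, 4, 6, 4, 1, 2, 0],
  [0, 3, 4, 0, 4],
  [0, 1, 2, 1, 3, 1, 2, 0, 1, 3],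
  [0, 4, 1, 3, 1, 4]]

end Cfsg.Agent.H25.Held
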