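import Cfsg.Agent.H25.Held.HeCheck0
import Cfsg.Agent.H25.Held.HeCheck1
import Cfsg.Agent.H25.Held.HeCheck2
import Cfsg.Agent.H25.Held.HeCheck3
import Cfsg.Agent.H25.Held.HeWords
import Cfsg.Agent.H59.HeCentBase

/-!
The He completion: seven involutions satisfying the local relators of the Held configuration generate
a group isomorphic to the presented Held group, or a trivial one.
-/

set_option autoImplicit false
set_option maxRecDepth 100000

namespace Cfsg.Agent.H25.Held

open Cfsg.Agent.H45 Cfsg.Agent.H59

theorem heRels_mem {w : List ℕ} : (w ∈ He0.rels ∨ w ∈ He1.rels ∨ w ∈ He2.rels ∨ w ∈ He3.rels) →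
    w ∈ heRels := by
  simp only [heRels, List.mem_append]
  tauto

theorem heRels_sq : ((List.range 7).all fun l => decide ([l, l] ∈ He3.rels)) = true := by decide +kernel

theorem sq_of_rels {G : Type*} [Group G] {e : ℕ → G} (hR : ∀ w ∈ heRels, evalW e w = 1) :
    ∀ l, l < 7 → e l * e l = 1 := by
  intro l hl
  have := hR [l, l] (heRels_mem (Or.inr (Or.inr (Or.inr
    (of_decide_eq_true (List.all_eq_true.mp heRels_sq l (List.mem_range.mpr hl)))))))
  simpa [evalW] using this

/-- The letters generate a group of order at most the order of He. -/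
theorem he_bound {G : Type*} [Group G] (e : ℕ → G) (hR : ∀ w ∈ heRels, evalW e w = 1) :
    Finite (sub e 7) ∧ Nat.card (sub e 7) ≤ 4030387200 := by
  have hsq := sq_of_rels hR
  have h4 := step e (fun l hl => hsq l (by omega)) (fun w hw => hR w (heRels_mem (Or.inl hw)))
    He0.rels_lt (Nat.zero_le 4) He0.close_ok He0.lt_ok (by norm_num) (sub_zero_card e)
  have h5 := step e (fun l hl => hsq l (by omega))
    (fun w hw => hR w (heRels_mem (Or.inr (Or.inl hw))))
    He1.rels_lt (by norm_num : 4 ≤ 5) He1.close_ok He1.lt_ok (by norm_num) h4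
  have h6 := step e (fun l hl => hsq l (by omega))
    (fun w hw => hR w (heRels_mem (Or.inr (Or.inr (Or.inl hw)))))
    He2.rels_lt (by norm_num : 5 ≤ 6) He2.close_ok He2.lt_ok (by norm_num) h5
  obtain ⟨N, hN⟩ : ∃ N : ℕ, 29155 = N := ⟨_, rfl⟩
  have ht : TreeSegsOK ⟨7, List.range 7, He3.cols, He3.rels, low 6⟩ 0 1
      [(He3.t0, He3.kt0, 3801), (He3.t1, He3.kt1, 7601), (He3.t2, He3.kt2, 11401),
        (He3.t3, He3.kt3, 15201), (He3.t4, He3.kt4, 19001), (He3.t5, He3.kt5, 22801),
        (He3.t6, He3.kt6, 26601), (He3.t7, He3.kt7, 29155)] He3.kt7 N :=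
    Eq.subst (motive := fun x => TreeSegsOK _ 0 1 _ He3.kt7 x) hN He3.tree_ok
  have hf : Nat.beq (He3.kb19 >>> 64) (2 ^ (N * 7) - 1) = true :=
    Eq.subst (motive := fun x => Nat.beq (He3.kb19 >>> 64) (2 ^ (x * 7) - 1) = true) hN He3.full_ok
  have hT : ∀ l, l < 7 → ∀ i, i < N → tget He3.cols i l < N := by
    rw [← hN]; exact He3.lt_ok
  have h7 := stepSegs (L := 7) (j := 6) e hsq
    (fun w hw => hR w (heRels_mem (Or.inr (Or.inr (Or.inr hw)))))
    He3.rels_lt (by norm_num : 6 ≤ 7) ht He3.segs_ok hf hT (by omega) h6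
  refine ⟨h7.1, h7.2.trans ?_⟩
  rw [← hN]

/-! ### the universal completion -/

/-- the word of a list of letters in the free group -/
def freeW (l : ℕ) : FreeGroup (Fin 7) := if h : l < 7 then FreeGroup.of ⟨l, h⟩ else 1

/-- the relators in the free group -/
def freeRels : Set (FreeGroup (Fin 7)) := {r | ∃ w ∈ heRels, evalW freeW w = r}

/-- the universal completion -/
abbrev Comp : Type := PresentedGroup freeRels

/-- letters of the universal completion -/
def compE (l : ℕ) : Comp := PresentedGroup.mk freeRels (freeW l)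

theorem compE_rel : ∀ w ∈ heRels, evalW compE w = 1 := by
  intro w hw
  have h : evalW compE w = PresentedGroup.mk freeRels (evalW freeW w) := by
    rw [evalW, evalW, map_list_prod, List.map_map]; rfl
  rw [h]
  exact PresentedGroup.one_of_mem ⟨w, hw, rfl⟩

theorem compE_top : sub compE 7 = ⊤ := by
  rw [eq_top_iff, ← PresentedGroup.closure_range_of, Subgroup.closure_le]
  rintro _ ⟨x, rfl⟩
  refine Subgroup.subset_closure ⟨x.val, x.isLt, ?_⟩
  simp [compE, freeW, PresentedGroup.of]

theorem comp_bound : Finite Comp ∧ Nat.card Comp ≤ 4030387200 := by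
  obtain ⟨hf, hc⟩ := he_bound compE compE_rel
  rw [compE_top] at hf hc
  exact ⟨Finite.of_equiv _ Subgroup.topEquiv.toEquiv, by rwa [Subgroup.card_top] at hc⟩

/-- images of the letters in He -/
def heE (l : ℕ) : HePres.pres.Gp := evalW HePres.pres.e (heImg.getD l [])

theorem heImg_lt : ∀ l, ∀ x ∈ heImg.getD l [], x < 7 := by
  intro l x hx
  have h : heImg.all (fun w => w.all fun y => Nat.blt y 7) = true := by decide +kernel
  rcases Nat.lt_or_ge l heImg.length with hl | hl
  · rw [List.getD_eq_getElem _ _ hl] at hx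
    exact blt_iff.mp (List.all_eq_true.mp (List.all_eq_true.mp h _ (List.getElem_mem hl)) x hx)
  · rw [List.getD_eq_getElem?_getD, List.getElem?_eq_none hl] at hx
    simp at hx

theorem expand_lt (w : List ℕ) : ∀ x ∈ expandW heImg w, x < 7 := by
  intro x hx
  simp only [expandW, List.mem_flatMap] at hx
  obtain ⟨l, -, hx⟩ := hx
  exact heImg_lt l x hx

theorem heE_rel_ok : (heRels.all fun w => HeCentBase.sameBase (expandW heImg w) []) = true := by
  decide +kernel

theorem heE_rel : ∀ w ∈ heRels, evalW heE w = 1 := by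
  intro w hw
  have h := (HeCentBase.sameBase_iff (expand_lt w) (by simp)).mp (List.all_eq_true.mp heE_rel_ok w hw)
  rw [evalW_expand, evalW_nil] at h
  exact h

/-- the map to He -/
theorem exists_toHe : ∃ ψ : Comp →* HePres.pres.Gp, ∀ l, l < 7 → ψ (compE l) = heE l := by
  have hrel : ∀ r ∈ freeRels, FreeGroup.lift (fun x : Fin 7 => heE x) r = 1 := by
    rintro r ⟨w, hw, rfl⟩
    rw [evalW, map_list_prod, List.map_map]
    rw [← heE_rel w hw, evalW]
    refine congrArg List.prod (List.map_congr_left fun l hl => ?_)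
    have hlt : l < 7 := by
      simp only [heRels, List.mem_append] at hw
      rcases hw with ((hw | hw) | hw) | hw
      · have := He0.rels_lt w hw l hl; omega
      · have := He1.rels_lt w hw l hl; omega
      · have := He2.rels_lt w hw l hl; omega
      · exact He3.rels_lt w hw l hl
    simp [freeW, hlt]
  refine ⟨PresentedGroup.toGroup hrel, fun l hl => ?_⟩
  simp only [compE, freeW, dif_pos hl]
  exact PresentedGroup.toGroup.of hrel

theorem heBack_ok : ((List.range 7).all fun l =>
    (heBack.getD l []).all (fun x => Nat.blt x 7) &&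
      HeCentBase.sameBase (expandW heImg (heBack.getD l [])) [l]) = true := by
  decide +kernel

/-- the completion is He -/
theorem exists_iso_comp : Nonempty (Comp ≃* Cfsg.Spor.He) := by
  obtain ⟨ψ, hψ⟩ := exists_toHe
  obtain ⟨hfin, hle⟩ := comp_bound
  obtain ⟨hfinH, hcard, -⟩ := HeMain.order_facts
  have hsurj : Function.Surjective ψ := by
    rw [← MonoidHom.range_eq_top, eq_top_iff, ← HePres.ok.gen, Subgroup.closure_le]
    rintro _ ⟨l, hl, rfl⟩
    have hl' : l < 7 := hl
    have hb := List.all_eq_true.mp heBack_ok l (List.mem_range.mpr hl')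
    simp only [Bool.and_eq_true, List.all_eq_true, blt_iff] at hb
    have h := (HeCentBase.sameBase_iff (expand_lt _)
      (fun x hx => by rw [List.mem_singleton.mp hx]; exact hl')).mp hb.2
    rw [evalW_expand] at h
    refine ⟨evalW compE (heBack.getD l []), ?_⟩
    rw [show HePres.pres.e l = evalW HePres.pres.e [l] by simp [evalW], ← h]
    simp only [evalW, map_list_prod, List.map_map]
    exact congrArg List.prod (List.map_congr_left fun x hx => hψ x (hb.1 x hx))
  have hbij : Function.Bijective ψ := by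
    refine (Nat.bijective_iff_surjective_and_card _).mpr ⟨hsurj, le_antisymm ?_ ?_⟩
    · rw [hcard]; exact hle
    · exact Nat.card_le_card_of_surjective ψ hsurj
  exact ⟨MulEquiv.ofBijective ψ hbij⟩

/-- **He completion.** A nontrivial group generated by seven elements satisfying the relators is
isomorphic to the presented Held group. -/
theorem isoHe_of_rels {G : Type*} [Group G] [Nontrivial G] (e : ℕ → G)
    (hR : ∀ w ∈ heRels, evalW e w = 1) (htop : sub e 7 = ⊤) : Cfsg.Spor.IsoHe G := by
  obtain ⟨iso⟩ := exists_iso_comp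
  have : IsSimpleGroup Cfsg.Spor.He := HeMain.isSimple
  have hrel : ∀ r ∈ freeRels, FreeGroup.lift (fun x : Fin 7 => e x) r = 1 := by
    rintro r ⟨w, hw, rfl⟩
    rw [evalW, map_list_prod, List.map_map]
    rw [← hR w hw, evalW]
    refine congrArg List.prod (List.map_congr_left fun l hl => ?_)
    have hlt : l < 7 := by
      simp only [heRels, List.mem_append] at hw
      rcases hw with ((hw | hw) | hw) | hw
      · have := He0.rels_lt w hw l hl; omega
      · have := He1.rels_lt w hw l hl; omega
      · have := He2.rels_lt w hw l hl; omega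
      · exact He3.rels_lt w hw l hl
    simp [freeW, hlt]
  let f : Cfsg.Spor.He →* G := (PresentedGroup.toGroup hrel).comp iso.symm.toMonoidHom
  have hsurj : Function.Surjective f := by
    rw [← MonoidHom.range_eq_top, eq_top_iff, ← htop]
    refine (Subgroup.closure_le _).mpr ?_
    rintro _ ⟨l, hl, rfl⟩
    refine ⟨iso (compE l), ?_⟩
    simp only [f, MonoidHom.comp_apply, MulEquiv.coe_toMonoidHom, MulEquiv.symm_apply_apply, compE,
      freeW, dif_pos hl]
    exact PresentedGroup.toGroup.of hrel
  have hinj : Function.Injective f := by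
    rw [← MonoidHom.ker_eq_bot_iff]
    refine (f.normal_ker.eq_bot_or_eq_top).resolve_right fun htopk => ?_
    obtain ⟨x, y, hxy⟩ := exists_pair_ne G
    obtain ⟨a, rfl⟩ := hsurj x
    obtain ⟨b, rfl⟩ := hsurj y
    have h1 : ∀ c, f c = 1 := fun c => MonoidHom.mem_ker.mp (by rw [htopk]; trivial)
    exact hxy (by rw [h1, h1])
  exact ⟨(MulEquiv.ofBijective f ⟨hinj, hsurj⟩).symm⟩

/-- Variant for a subgroup: the letters generate a copy of He or nothing. -/
theorem isoHe_sub {G : Type*} [Group G] (e : ℕ → G) (hR : ∀ w ∈ heRels, evalW e w = 1)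
    (hne : ∃ l, l < 7 ∧ e l ≠ 1) : Cfsg.Spor.IsoHe (sub e 7) := by
  let e' : ℕ → sub e 7 := fun l =>
    if h : l < 7 then ⟨e l, Subgroup.subset_closure ⟨l, h, rfl⟩⟩ else 1
  obtain ⟨l, hl, hne⟩ := hne
  have : Nontrivial (sub e 7) :=
    ⟨⟨e' l, 1, fun h => hne (by simpa [e', hl] using congrArg Subtype.val h)⟩⟩
  refine isoHe_of_rels e' (fun w hw => ?_) ?_
  · refine Subtype.ext ?_
    rw [Subgroup.coe_one, ← hR w hw, ← Subgroup.coe_subtype, evalW, map_list_prod, List.map_map,
      evalW]
    refine congrArg List.prod (List.map_congr_left fun x hx => ?_)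
    have hlt : x < 7 := by
      simp only [heRels, List.mem_append] at hw
      rcases hw with ((hw | hw) | hw) | hw
      · have := He0.rels_lt w hw x hx; omega
      · have := He1.rels_lt w hw x hx; omega
      · have := He2.rels_lt w hw x hx; omega
      · exact He3.rels_lt w hw x hx
    simp [e', hlt]
  · apply Subgroup.map_injective (sub e 7).subtype_injective
    rw [← MonoidHom.range_eq_map, Subgroup.range_subtype]
    rw [show sub e' 7 = Subgroup.closure {g | ∃ l, l < 7 ∧ e' l = g} from rfl, MonoidHom.map_closure]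
    unfold sub
    congr 1
    ext g
    constructor
    · rintro ⟨_, ⟨x, hx, rfl⟩, rfl⟩; exact ⟨x, hx, by simp [e', hx]⟩
    · rintro ⟨x, hx, rfl⟩; exact ⟨_, ⟨x, hx, rfl⟩, by simp [e', hx]⟩

end Cfsg.Agent.H25.Held
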