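import Cfsg.Agent.H25.Held.Normalisers
import Cfsg.Agent.H95.Held.Cases
import Cfsg.Agent.H83.Held.Mirror
import Cfsg.Agent.H83.Held.PointIso

/-!
The Held trichotomy assembled from its parts.
-/

set_option autoImplicit false

namespace Cfsg.Agent.H25.Held

open Subgroup Cfsg.Agent.H98.Held Cfsg.Agent.H95.Held

universe u

/-- The conclusion. -/
def Trichotomy (G : Type u) [Group G] : Prop :=
  (∃ v : Fin 5 → ZMod 2, v ≠ 0 ∧
      Nonempty (G ≃* MulAction.stabilizer (Matrix.SpecialLinearGroup (Fin 5) (ZMod 2)) v)) ∨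
    Nonempty (G ≃* Matrix.SpecialLinearGroup (Fin 5) (ZMod 2)) ∨ Nonempty (G ≃* Cfsg.M24) ∨
      Cfsg.Spor.IsoHe G

/-- The fusion pattern of a mask. -/
def HasMask {G : Type u} [Group G] (B : Emb G) (m : ℕ) : Prop := ∀ k < 8, B.IsZ (rep k) ↔ inK m k = true

/-- The missing parts, for one group. -/
structure Parts (G : Type u) [Group G] : Prop where
  outerL : ∀ B : Emb G, HasMask B 7 → ∃ g, Nonempty (Outer B L52.spec g)
  outerM : ∀ B : Emb G, HasMask B 23 → ∃ g, Nonempty (Outer B M24.spec g)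
  outerH : ∀ B : Emb G, HasMask B 31 → ∃ g, Nonempty (Outer B He.spec g)
  top : ∀ (B : Emb G) (H : Subgroup G) (m : ℕ), m ∈ [7, 23, 31] → HasMask B m →
      centralizer ({B.z} : Set G) ≤ H → normalizer (B.gA : Set G) ≤ H → normalizer (B.gB : Set G) ≤ H →
      H = ⊤

/-- The three cases with transitive fusion on both normalisers. -/
theorem cases_of {G : Type u} [Group G] [Finite G] (P : Parts G) (B : Emb G) {m : ℕ} (hm : m ∈ [7, 23, 31])
    (hmask : HasMask B m) :
    Nonempty (G ≃* Matrix.SpecialLinearGroup (Fin 5) (ZMod 2)) ∨ Nonempty (G ≃* Cfsg.M24) ∨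
      Cfsg.Spor.IsoHe G := by
  simp only [List.mem_cons, List.not_mem_nil, or_false] at hm
  rcases hm with rfl | rfl | rfl
  · obtain ⟨g, ⟨O⟩⟩ := P.outerL B hmask
    exact Or.inl (L52.iso_SL5_of_outer B g O (P.top B _ 7 (by simp) hmask le_sup_left
      (Orbit.normalizer_gA_le L52.spec_ok O hmask Orbit.full_L52.1)
      (Orbit.normalizer_gB_le L52.spec_ok O hmask Orbit.full_L52.2)))
  · obtain ⟨g, ⟨O⟩⟩ := P.outerM B hmask
    exact Or.inr (Or.inl (M24.iso_M24_of_outer B g O (P.top B _ 23 (by simp) hmask le_sup_left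
      (Orbit.normalizer_gA_le M24.spec_ok O hmask Orbit.full_M24.1)
      (Orbit.normalizer_gB_le M24.spec_ok O hmask Orbit.full_M24.2))))
  · obtain ⟨g, ⟨O⟩⟩ := P.outerH B hmask
    exact Or.inr (Or.inr (He.isoHe_of_outer B g O (P.top B _ 31 (by simp) hmask le_sup_left
      (Orbit.normalizer_gA_le He.spec_ok O hmask Orbit.full_He.1)
      (Orbit.normalizer_gB_le He.spec_ok O hmask Orbit.full_He.2))))

/-- The trichotomy from its parts. -/
theorem trichotomy_of {G : Type u} [Group G] [Finite G] (P : Parts G) (B : Emb G)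
    (hnwc : B.IsZ (rep 1) ∨ B.IsZ (rep 2)) : Trichotomy G := by
  obtain ⟨B', -, m, hm, hmask⟩ := H83.Held.exists_normal_mask B hnwc
  rcases List.mem_cons.1 hm with rfl | hm
  · exact Or.inl (H83.Held.Point.point_case B' hmask)
  · exact Or.inr (cases_of P B' hm hmask)

/-- The trichotomy for simple groups from its parts. -/
theorem trichotomy_simple_of {G : Type u} [Group G] [Finite G] [hs : IsSimpleGroup G] (P : Parts G) (B : Emb G) :
    Nonempty (G ≃* Matrix.SpecialLinearGroup (Fin 5) (ZMod 2)) ∨ Nonempty (G ≃* Cfsg.M24) ∨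
      Cfsg.Spor.IsoHe G := by
  obtain ⟨B', -, m, hm, hmask⟩ := H83.Held.exists_normal_mask_simple B
  rcases List.mem_cons.1 hm with rfl | hm
  · exact absurd hs (H83.Held.Point.not_simple B' hmask)
  · exact cases_of P B' hm hmask

end Cfsg.Agent.H25.Held
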