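import Cfsg.Agent.H45.CosetPres

/-!
Order bounds along a chain of subgroups generated by initial segments of involution letters.
-/

set_option autoImplicit false

namespace Cfsg.Agent.H25.Held

open Cfsg.Agent.H45

variable {G : Type*} [Group G]

/-- subgroup generated by the first `L` letters -/
def sub (e : ℕ → G) (L : ℕ) : Subgroup G := Subgroup.closure {g | ∃ l, l < L ∧ e l = g}

theorem sub_zero (e : ℕ → G) : sub e 0 = ⊥ := by
  simp [sub]

theorem sub_zero_card (e : ℕ → G) : Finite (sub e 0) ∧ Nat.card (sub e 0) ≤ 1 := by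
  rw [sub_zero]
  exact ⟨inferInstance, le_of_eq Subgroup.card_bot⟩

/-- the subgroup words of a level -/
def low (j : ℕ) : List (List ℕ) := (List.range j).map fun l => [l]

/-- One step of the chain: a closed table of `n` cosets of the first `j` letters among the first `L`. -/
theorem step (e : ℕ → G) {j L n m : ℕ} (hsq : ∀ l, l < L → e l * e l = 1)
    {R : List (List ℕ)} (hR : ∀ w ∈ R, evalW e w = 1) (hRlt : ∀ w ∈ R, ∀ l ∈ w, l < L) (hjL : j ≤ L)
    {cols tree : List ℕ} {bs : List Blk}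
    (hc : closeCheck ⟨L, List.range L, cols, R, low j⟩ n tree bs = true)
    (hT : ∀ l, l < L → ∀ i, i < n → tget cols i l < n) (hn : 0 < n)
    (hm : Finite (sub e j) ∧ Nat.card (sub e j) ≤ m) :
    Finite (sub e L) ∧ Nat.card (sub e L) ≤ n * m := by
  let e' : ℕ → G := fun l => if l < L then e l else 1
  have hev : ∀ w : List ℕ, (∀ l ∈ w, l < L) → evalW e' w = evalW e w := fun w hw =>
    congrArg List.prod (List.map_congr_left fun l hl => if_pos (hw l hl))
  have hinv : ∀ l, e' (linv (List.range L) l) = (e' l)⁻¹ := by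
    intro l
    rw [linv_range]
    by_cases h : l < L
    · simp only [e', if_pos h]; exact eq_inv_of_mul_eq_one_left (hsq l h)
    · simp only [e', if_neg h, inv_one]
  have hD : Hyp ⟨L, List.range L, cols, R, low j⟩ e' (sub e j) := by
    refine ⟨hinv, fun w hw => (hev w (hRlt w hw)).trans (hR w hw), fun w hw => ?_⟩
    simp only [low, List.mem_map, List.mem_range] at hw
    obtain ⟨l, hl, rfl⟩ := hw
    exact Subgroup.subset_closure ⟨l, hl, by simp [evalW, e', Nat.lt_of_lt_of_le hl hjL]⟩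
  have hE : ∀ l, l < L → e' l ∈ sub e L := fun l hl =>
    Subgroup.subset_closure ⟨l, hl, (if_pos hl).symm⟩
  obtain ⟨-, w, hw0, -, hw⟩ := closeCheck_sound hD hE hc
  have := hm.1
  refine card_le_of_cosets (w := w) (cosets_exhaust (e := e') (iv := List.range L) ?_
    (fun l hl => ⟨by rw [linv_range]; exact hl, hinv l⟩) hT hn hw0 hw) hm.2
  refine Subgroup.closure_mono ?_
  rintro g ⟨l, hl, rfl⟩
  exact ⟨l, hl, if_pos hl⟩

/-- one segment of the tree: it takes `(K, j)` to `(K', j')` -/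
noncomputable def treeSeg (D : Dat) (cs : List ℕ) (K j K' j' : ℕ) : Bool :=
  treeAll D cs K j fun X y => Nat.beq X K' && Nat.beq y j'

/-- segments of the tree, each recorded with the state it reaches -/
def TreeSegsOK (D : Dat) : ℕ → ℕ → List (List ℕ × ℕ × ℕ) → ℕ → ℕ → Prop
  | K, j, [], K', j' => K = K' ∧ j = j'
  | K, j, (cs, X, y) :: rest, K', j' => treeSeg D cs K j X y = true ∧ TreeSegsOK D X y rest K' j'

theorem TreeSegsOK_sound {D : Dat} {e : ℕ → G} {H E : Subgroup G} (hD : Hyp D e H)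
    (hE : ∀ l, l < D.L → e l ∈ E) :
    ∀ (segs : List (List ℕ × ℕ × ℕ)) (K j K' j' : ℕ), TInv D e H E K j →
      TreeSegsOK D K j segs K' j' → TInv D e H E K' j' := by
  intro segs
  induction segs with
  | nil =>
    intro K j K' j' hK h
    obtain ⟨rfl, rfl⟩ : K = K' ∧ j = j' := h
    exact hK
  | cons x rest ih =>
    obtain ⟨cs, X, y⟩ := x
    intro K j K' j' hK h
    obtain ⟨Y, z, hY, hI⟩ := treeAll_sound hD hE _ _ _ _ hK h.1
    simp only [Bool.and_eq_true, Nat.beq_eq] at hY
    obtain ⟨rfl, rfl⟩ := hY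
    exact ih _ _ K' j' hI h.2

/-- One step of the chain, checked in segments. -/
theorem stepSegs (e : ℕ → G) {j L n m : ℕ} (hsq : ∀ l, l < L → e l * e l = 1)
    {R : List (List ℕ)} (hR : ∀ w ∈ R, evalW e w = 1) (hRlt : ∀ w ∈ R, ∀ l ∈ w, l < L) (hjL : j ≤ L)
    {cols : List ℕ} {tsegs : List (List ℕ × ℕ × ℕ)} {segs : List (List Blk × ℕ)} {K0 K1 : ℕ}
    (ht : TreeSegsOK ⟨L, List.range L, cols, R, low j⟩ 0 1 tsegs K0 n)
    (hs : SegsOK ⟨L, List.range L, cols, R, low j⟩ K0 segs K1)
    (hfull : Nat.beq (K1 >>> 64) (2 ^ (n * L) - 1) = true)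
    (hT : ∀ l, l < L → ∀ i, i < n → tget cols i l < n) (hn : 0 < n)
    (hm : Finite (sub e j) ∧ Nat.card (sub e j) ≤ m) :
    Finite (sub e L) ∧ Nat.card (sub e L) ≤ n * m := by
  let e' : ℕ → G := fun l => if l < L then e l else 1
  have hev : ∀ w : List ℕ, (∀ l ∈ w, l < L) → evalW e' w = evalW e w := fun w hw =>
    congrArg List.prod (List.map_congr_left fun l hl => if_pos (hw l hl))
  have hinv : ∀ l, e' (linv (List.range L) l) = (e' l)⁻¹ := by
    intro l
    rw [linv_range]
    by_cases h : l < L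
    · simp only [e', if_pos h]; exact eq_inv_of_mul_eq_one_left (hsq l h)
    · simp only [e', if_neg h, inv_one]
  have hD : Hyp ⟨L, List.range L, cols, R, low j⟩ e' (sub e j) := by
    refine ⟨hinv, fun w hw => (hev w (hRlt w hw)).trans (hR w hw), fun w hw => ?_⟩
    simp only [low, List.mem_map, List.mem_range] at hw
    obtain ⟨l, hl, rfl⟩ := hw
    exact Subgroup.subset_closure ⟨l, hl, by simp [evalW, e', Nat.lt_of_lt_of_le hl hjL]⟩
  have hE : ∀ l, l < L → e' l ∈ sub e L := fun l hl =>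
    Subgroup.subset_closure ⟨l, hl, (if_pos hl).symm⟩
  have h0 : TInv ⟨L, List.range L, cols, R, low j⟩ e' (sub e j) (sub e L) 0 1 := by
    refine ⟨one_pos, ?_, fun x h1 h2 => by omega, fun _ => 1, rfl, fun _ => (sub e L).one_mem, ?_⟩ <;>
      · intro x y _ hb
        simp [egt, bget_eq] at hb
  obtain ⟨-, -, -, w, hw0, -, hK⟩ := TreeSegsOK_sound hD hE tsegs _ _ _ _ h0 ht
  have hI := SegsOK_sound hD hw0 segs _ _ hK hs
  have hw : ∀ i, i < n → ∀ l, l < L → w i * e' l * (w (tget cols i l))⁻¹ ∈ sub e j := by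
    intro i hi l hl
    refine hI i l hl ?_
    rw [egt, bget_eq, Nat.add_comm, ← Nat.testBit_shiftRight, Nat.eq_of_beq_eq_true hfull,
      Nat.testBit_two_pow_sub_one, decide_eq_true_eq]
    calc i * L + l < i * L + L := by omega
      _ = (i + 1) * L := by ring
      _ ≤ n * L := Nat.mul_le_mul_right _ hi
  have := hm.1
  refine card_le_of_cosets (w := w) (cosets_exhaust (e := e') (iv := List.range L) ?_
    (fun l hl => ⟨by rw [linv_range]; exact hl, hinv l⟩) hT hn hw0 hw) hm.2
  refine Subgroup.closure_mono ?_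
  rintro g ⟨l, hl, rfl⟩
  exact ⟨l, hl, if_pos hl⟩

end Cfsg.Agent.H25.Held
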