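import Cfsg.Agent.H25.Held.He

/-!
Equations and inequations between words in the He completion, decided in the permutation
representation of the presented Held group.
-/

set_option autoImplicit false

namespace Cfsg.Agent.H25.Held

open Cfsg.Agent.H45 Cfsg.Agent.H59

theorem rel_lt {w : List ℕ} (hw : w ∈ heRels) : ∀ l ∈ w, l < 7 := by
  intro l hl
  simp only [heRels, List.mem_append] at hw
  rcases hw with ((hw | hw) | hw) | hw
  · have := He0.rels_lt w hw l hl; omega
  · have := He1.rels_lt w hw l hl; omega
  · have := He2.rels_lt w hw l hl; omega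
  · exact He3.rels_lt w hw l hl

theorem exists_toHe_bij :
    ∃ ψ : Comp ≃* HePres.pres.Gp, ∀ l, l < 7 → ψ (compE l) = heE l := by
  obtain ⟨ψ, hψ⟩ := exists_toHe
  obtain ⟨hfin, hle⟩ := comp_bound
  obtain ⟨hfinH, hcard, -⟩ := HeMain.order_facts
  have hsurj : Function.Surjective ψ := by
    rw [← MonoidHom.range_eq_top, eq_top_iff, ← HePres.ok.gen, Subgroup.closure_le]
    rintro _ ⟨l, hl, rfl⟩
    have hl' : l < 7 := hl
    have hb := List.all_eq_true.mp heBack_ok l (List.mem_range.mpr hl')
    simp only [Bool.and_eq_true, List.all_eq_true, blt_iff] at hb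
    have h := (HeCentBase.sameBase_iff (expand_lt _)
      (fun x hx => by rw [List.mem_singleton.mp hx]; exact hl')).mp hb.2
    rw [evalW_expand] at h
    refine ⟨evalW compE (heBack.getD l []), ?_⟩
    rw [show HePres.pres.e l = evalW HePres.pres.e [l] by simp [evalW], ← h]
    simp only [evalW, map_list_prod, List.map_map]
    exact congrArg List.prod (List.map_congr_left fun x hx => hψ x (hb.1 x hx))
  have hbij : Function.Bijective ψ := by
    refine (Nat.bijective_iff_surjective_and_card _).mpr ⟨hsurj, le_antisymm ?_ ?_⟩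
    · rw [hcard]; exact hle
    · exact Nat.card_le_card_of_surjective ψ hsurj
  exact ⟨MulEquiv.ofBijective ψ hbij, hψ⟩

/-- The map from the presented Held group onto the group generated by the letters. -/
theorem exists_hom {G : Type*} [Group G] (e : ℕ → G) (hR : ∀ w ∈ heRels, evalW e w = 1)
    (hne : ∃ l, l < 7 ∧ e l ≠ 1) : ∃ f : HePres.pres.Gp →* G, Function.Injective f ∧
      f.range = sub e 7 ∧ ∀ w, (∀ l ∈ w, l < 7) → f (evalW HePres.pres.e (expandW heImg w)) = evalW e w := by
  obtain ⟨ψ, hψ⟩ := exists_toHe_bij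
  have hrel : ∀ r ∈ freeRels, FreeGroup.lift (fun x : Fin 7 => e x) r = 1 := by
    rintro r ⟨w, hw, rfl⟩
    rw [evalW, map_list_prod, List.map_map]
    rw [← hR w hw, evalW]
    refine congrArg List.prod (List.map_congr_left fun l hl => ?_)
    simp [freeW, rel_lt hw l hl]
  let f : HePres.pres.Gp →* G := (PresentedGroup.toGroup hrel).comp ψ.symm.toMonoidHom
  have hl : ∀ l, l < 7 → f (heE l) = e l := by
    intro l hl
    rw [← hψ l hl]
    simp only [f, MonoidHom.comp_apply, MulEquiv.coe_toMonoidHom, MulEquiv.symm_apply_apply, compE,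
      freeW, dif_pos hl]
    exact PresentedGroup.toGroup.of hrel
  have hword : ∀ w, (∀ l ∈ w, l < 7) → f (evalW HePres.pres.e (expandW heImg w)) = evalW e w := by
    intro w hw
    rw [evalW_expand, evalW, evalW, map_list_prod, List.map_map]
    exact congrArg List.prod (List.map_congr_left fun l hl' => hl l (hw l hl'))
  refine ⟨f, ?_, le_antisymm ?_ ((Subgroup.closure_le _).2 ?_), hword⟩
  · rw [← MonoidHom.ker_eq_bot_iff]
    have : IsSimpleGroup HePres.pres.Gp := HeMain.isSimple
    refine (f.normal_ker.eq_bot_or_eq_top).resolve_right fun htopk => ?_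
    obtain ⟨l, hl7, hne⟩ := hne
    exact hne (by rw [← hl l hl7]; exact MonoidHom.mem_ker.mp (by rw [htopk]; trivial))
  · rintro _ ⟨y, rfl⟩
    obtain ⟨c, rfl⟩ := ψ.surjective y
    simp only [f, MonoidHom.comp_apply, MulEquiv.coe_toMonoidHom, MulEquiv.symm_apply_apply]
    have hc : c ∈ sub compE 7 := by rw [compE_top]; trivial
    induction hc using Subgroup.closure_induction with
    | mem x hx =>
      obtain ⟨l, hl7, rfl⟩ := hx
      simp only [compE, freeW, dif_pos hl7]
      exact (PresentedGroup.toGroup.of hrel).symm ▸ Subgroup.subset_closure ⟨l, hl7, rfl⟩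
    | one => rw [map_one]; exact one_mem _
    | mul x y _ _ hx hy => rw [map_mul]; exact mul_mem hx hy
    | inv x _ hx => rw [map_inv]; exact inv_mem hx
  · rintro _ ⟨l, hl7, rfl⟩
    exact ⟨heE l, hl l hl7⟩

end Cfsg.Agent.H25.Held
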