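import Cfsg.Agent.H25.Held.Chain
import Cfsg.Agent.H25.Held.HeData3

/-!
Kernel check of a generated coset certificate, in segments.
-/

set_option autoImplicit false
set_option Elab.async false
set_option maxRecDepth 100000

namespace Cfsg.Agent.H25.Held.He3

open Cfsg.Agent.H45

theorem t0_ok : treeSeg dat t0 0 1 kt0 3801 = true := by decide +kernel

theorem t1_ok : treeSeg dat t1 kt0 3801 kt1 7601 = true := by decide +kernel

theorem t2_ok : treeSeg dat t2 kt1 7601 kt2 11401 = true := by decide +kernel

theorem t3_ok : treeSeg dat t3 kt2 11401 kt3 15201 = true := by decide +kernel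

end Cfsg.Agent.H25.Held.He3
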