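import Cfsg.Agent.H25.Held.Assembly
import Cfsg.Agent.H7Held.Final
import Cfsg.Agent.H67.Held.OuterData

/-!
The Held trichotomy for a group with the centraliser of a transvection of SL(5,2) as involution centraliser.
-/

set_option autoImplicit false

namespace Cfsg.Agent.H25.Held

open Subgroup Cfsg.Agent.H98.Held Cfsg.Agent.H95.Held

universe u

theorem parts {G : Type u} [Group G] [Finite G] : Parts G where
  outerL B hm := H67.Held.outer_L52 (B := B) hm
  outerM B hm := H67.Held.outer_M24 (B := B) hm
  outerH B hm := H67.Held.outer_He (B := B) hm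
  top B H m hmem hm hC hA hB := H7Held.eq_top_of_mask B H m hmem hm hC hA hB

/-- **Held's trichotomy**, with the point stabiliser case. -/
theorem trichotomy {G : Type u} [Group G] [Finite G] (B : Emb G) (hnwc : B.IsZ (rep 1) ∨ B.IsZ (rep 2)) :
    Trichotomy G :=
  trichotomy_of parts B hnwc

/-- **Held's trichotomy** for simple groups. -/
theorem trichotomy_simple {G : Type u} [Group G] [Finite G] [IsSimpleGroup G] (B : Emb G) :
    Nonempty (G ≃* Matrix.SpecialLinearGroup (Fin 5) (ZMod 2)) ∨ Nonempty (G ≃* Cfsg.M24) ∨
      Cfsg.Spor.IsoHe G :=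
  trichotomy_simple_of parts B

end Cfsg.Agent.H25.Held
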