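import Cfsg.Agent.H59.HeCentBase
import Mathlib.GroupTheory.Sylow

/-!
The Held group has no element of order 35: elements of order 7 move every one of the 2058 points, and
the number of points fixed by an element of order 5 is not divisible by 7.
-/

set_option autoImplicit false
set_option maxRecDepth 100000

namespace Cfsg.Agent.H25.Held.NoThirtyFive

open Cfsg.Agent.H45 Cfsg.Agent.H59.HeCentBase Cfsg.Agent.Compute

/-- first word of order five -/
def wa : List ℕ := [1, 2, 3, 6, 3, 2, 1, 1, 2, 3, 6, 3, 2, 1, 3, 4, 0, 1, 0, 1, 4, 1, 2, 3, 6, 3, 2, 1, 5, 5, 0, 1,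
  2, 3, 6, 3, 2, 1, 2, 4, 0, 1, 0, 1, 0, 1, 2, 3, 6, 3, 2, 1, 1, 2, 3, 6, 3, 2, 1, 3, 4, 0, 1, 0,
  1, 4, 1, 2, 3, 6, 3, 2, 1, 5, 5, 0, 1, 2, 3, 6, 3, 2, 1, 2, 4, 0, 1, 0, 1, 0, 1, 2, 3, 6, 3, 2,
  1, 1, 2, 3, 6, 3, 2, 1, 3, 4, 0, 1, 0, 1, 4, 1, 2, 3, 6, 3, 2, 1, 5, 5, 0, 1, 2, 3, 6, 3, 2, 1,
  2, 4, 0, 1, 0, 1, 0]

/-- second word of order five, commuting with the first -/
def wb : List ℕ := [0, 1, 0, 1, 1, 2, 3, 6, 3, 2, 1, 2, 0, 1, 0, 1, 3, 0, 1, 0, 1, 1, 2, 3, 6, 3, 2, 1, 2, 0, 1, 0,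
  1, 3, 0, 1, 0, 1, 1, 2, 3, 6, 3, 2, 1, 2, 0, 1, 0, 1, 3]

/-- words of a representative of each subgroup of order five -/
def reps : List (List ℕ) :=
  wb :: (List.range 5).map fun k => wa ++ (List.replicate k wb).flatten

/-- the number of fixed points of a word -/
noncomputable def fixCount (w : List ℕ) : ℕ :=
  ((List.range 2058).filter fun i => Nat.beq (imgWd w i) i).length

theorem words_ok : (reps.all fun w => lettersOK w) = true ∧ lettersOK wa = true ∧
    sameBase (wa ++ wb) (wb ++ wa) = true ∧ sameBase (List.replicate 5 wa).flatten [] = true ∧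
    sameBase (List.replicate 5 wb).flatten [] = true ∧ sameBase wa [] = false ∧
    ((List.range 5).all fun k => !(sameBase wb (List.replicate k wa).flatten)) = true := by
  decide +kernel

theorem fix_ok : (reps.all fun w => !(Nat.beq (fixCount w % 7) 0)) = true := by decide +kernel

/-- the element of a word -/
noncomputable def el (w : List ℕ) : HePres.pres.Gp := evalW HePres.pres.e w

theorem el_append (u v : List ℕ) : el (u ++ v) = el u * el v := evalW_append _ u v

theorem el_replicate (w : List ℕ) : ∀ m, el (List.replicate m w).flatten = el w ^ m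
  | 0 => by simp [el, evalW]
  | m + 1 => by
    rw [List.replicate_succ, List.flatten_cons, el_append, el_replicate w m, pow_succ']

theorem lt_of_ok {w : List ℕ} (h : lettersOK w = true) : ∀ l ∈ w, l < 7 := by
  simp only [lettersOK, lall_iff, Nat.ble_eq] at h
  exact h

theorem wb_lt : ∀ l ∈ wb, l < 7 :=
  lt_of_ok (List.all_eq_true.1 words_ok.1 _ List.mem_cons_self)

theorem rep_lt {w : List ℕ} : ∀ (m : ℕ), (∀ l ∈ w, l < 7) → ∀ l ∈ (List.replicate m w).flatten, l < 7 := by
  intro m h l hl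
  obtain ⟨x, hx, hlx⟩ := List.mem_flatten.1 hl
  exact h l (List.eq_of_mem_replicate hx ▸ hlx)

theorem wa_spec : el wa * el wb = el wb * el wa ∧ el wa ^ 5 = 1 ∧ el wb ^ 5 = 1 ∧ el wa ≠ 1 ∧
    ∀ k, el wb ≠ el wa ^ k := by
  obtain ⟨-, ha, hc, h5a, h5b, hne, hk⟩ := words_ok
  have la := lt_of_ok ha
  have lb := wb_lt
  have app : ∀ {u v : List ℕ}, (∀ l ∈ u, l < 7) → (∀ l ∈ v, l < 7) → ∀ l ∈ u ++ v, l < 7 :=
    fun hu hv l hl => (List.mem_append.1 hl).elim (hu l) (hv l)
  have e5a : el wa ^ 5 = 1 := by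
    rw [← el_replicate]; exact (sameBase_iff (rep_lt 5 la) (by simp)).1 h5a
  refine ⟨?_, e5a, ?_, fun h => ?_, fun k h => ?_⟩
  · rw [← el_append, ← el_append]; exact (sameBase_iff (app la lb) (app lb la)).1 hc
  · rw [← el_replicate]; exact (sameBase_iff (rep_lt 5 lb) (by simp)).1 h5b
  · have := (sameBase_iff (v := []) la (by simp)).2 h
    rw [hne] at this
    exact Bool.false_ne_true this
  · rw [← Nat.mod_add_div k 5, pow_add, pow_mul, e5a, one_pow, mul_one, ← el_replicate] at h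
    have := (sameBase_iff lb (rep_lt (k % 5) la)).2 h
    have hk' := List.all_eq_true.1 hk (k % 5) (List.mem_range.2 (Nat.mod_lt _ (by norm_num)))
    rw [this] at hk'
    exact Bool.false_ne_true hk'

theorem exp_check : ∀ i j : Fin 5, i ≠ 0 ∨ j ≠ 0 →
    (∃ s k : Fin 5, s ≠ 0 ∧ i = s ∧ j = s * k) ∨ (∃ s : Fin 5, s ≠ 0 ∧ i = 0 ∧ j = s) := by decide

/-- An element of order five has a power conjugate to one of the representatives. -/
theorem exists_rep {x : HePres.pres.Gp} (hx : orderOf x = 5) :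
    ∃ w ∈ reps, ∃ g : HePres.pres.Gp, ∃ t : ℕ, g * el w * g⁻¹ = x ^ t := by
  have := HeMain.order_facts.1
  obtain ⟨hab, ha5, hb5, ha1, hbk⟩ := wa_spec
  set a := el wa with ha
  set b := el wb with hb
  have hfact : Fact (Nat.Prime 5) := ⟨by norm_num⟩
  let P := Subgroup.zpowers a ⊔ Subgroup.zpowers b
  have hmem : ∀ y ∈ P, ∃ i j : ℕ, y = a ^ i * b ^ j := by
    intro y hy
    have hn : Subgroup.zpowers b ≤ Subgroup.normalizer (Subgroup.zpowers a : Set HePres.pres.Gp) := by
      refine (Subgroup.zpowers_le.2 ?_)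
      refine Subgroup.centralizer_le_normalizer _ (Subgroup.mem_centralizer_iff.2 ?_)
      rintro _ ⟨n, rfl⟩
      exact (Commute.zpow_left (show Commute a b from hab) n).eq
    rw [← SetLike.mem_coe, Subgroup.coe_mul_of_right_le_normalizer_left _ _ hn] at hy
    obtain ⟨p, hp, q, hq, rfl⟩ := hy
    obtain ⟨i, rfl⟩ := (isOfFinOrder_of_finite a).mem_powers_iff_mem_zpowers.2 hp
    obtain ⟨j, rfl⟩ := (isOfFinOrder_of_finite b).mem_powers_iff_mem_zpowers.2 hq
    exact ⟨i, j, rfl⟩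
  have hP : IsPGroup 5 P := by
    intro y
    obtain ⟨i, j, hy⟩ := hmem _ y.2
    refine ⟨1, Subtype.ext ?_⟩
    rw [pow_one, SubmonoidClass.coe_pow, hy, (show Commute a b from hab).pow_pow i j |>.mul_pow,
      ← pow_mul, ← pow_mul, mul_comm i, mul_comm j, pow_mul, pow_mul, ha5, hb5, one_pow, one_pow,
      mul_one, Subgroup.coe_one]
  obtain ⟨S, hS⟩ := hP.exists_le_sylow
  have hoa : Nat.card (Subgroup.zpowers a) = 5 := by
    rw [Nat.card_zpowers]; exact orderOf_eq_prime ha5 ha1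
  have hbnot : b ∉ Subgroup.zpowers a := fun h => by
    obtain ⟨k, hk⟩ := (isOfFinOrder_of_finite a).mem_powers_iff_mem_zpowers.2 h
    exact hbk k hk.symm
  have hlt : Nat.card (Subgroup.zpowers a) < Nat.card P := by
    refine lt_of_le_of_ne (Subgroup.card_le_of_le le_sup_left) fun h => hbnot ?_
    rw [Subgroup.eq_of_le_of_card_ge le_sup_left h.ge]
    exact (le_sup_right : Subgroup.zpowers b ≤ P) (Subgroup.mem_zpowers b)
  have hScard : Nat.card (S : Subgroup HePres.pres.Gp) = 5 ^ 2 := by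
    rw [S.card_eq_multiplicity, HeMain.order_facts.2.1]
    congr 1
    rw [show (4030387200 : ℕ) = 5 ^ 2 * 161215488 by norm_num,
      Nat.factorization_mul (by norm_num) (by norm_num), Finsupp.add_apply,
      Nat.Prime.factorization_pow (by norm_num), Finsupp.single_eq_same,
      Nat.factorization_eq_zero_of_not_dvd (by norm_num)]
  have hPS : (S : Subgroup HePres.pres.Gp) ≤ P := by
    obtain ⟨n, hn⟩ := IsPGroup.iff_card.1 hP
    have : 5 ^ 1 < 5 ^ n := by rw [← hn, pow_one]; exact lt_of_eq_of_lt hoa.symm hlt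
    have h2 : 2 ≤ n := (Nat.pow_lt_pow_iff_right (by norm_num)).1 this
    rw [Subgroup.eq_of_le_of_card_ge hS (by
      rw [hScard, hn]; exact Nat.pow_le_pow_right (by norm_num) h2)]
  have hxp : IsPGroup 5 (Subgroup.zpowers x) :=
    IsPGroup.of_card (n := 1) (by rw [Nat.card_zpowers, hx, pow_one])
  obtain ⟨T, hT⟩ := hxp.exists_le_sylow
  obtain ⟨g, hg⟩ := MulAction.exists_smul_eq HePres.pres.Gp S T
  have hxT : x ∈ (T : Subgroup HePres.pres.Gp) := hT (Subgroup.mem_zpowers x)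
  rw [← hg, Sylow.coe_subgroup_smul, Subgroup.mem_pointwise_smul_iff_inv_smul_mem] at hxT
  obtain ⟨i, j, hij⟩ := hmem _ (hPS hxT)
  have hy : g⁻¹ * x * g = a ^ i * b ^ j := by
    rw [← hij]; simp [MulAut.smul_def]
  have hx1 : g⁻¹ * x * g ≠ 1 := fun h => by
    have : x = 1 := by
      calc x = g * (g⁻¹ * x * g) * g⁻¹ := by group
        _ = 1 := by rw [h]; group
    rw [this, orderOf_one] at hx
    norm_num at hx
  have modp : ∀ {c : HePres.pres.Gp}, c ^ 5 = 1 → ∀ m, c ^ m = c ^ ((Fin.ofNat 5 m : Fin 5) : ℕ) := by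
    intro c hc m
    conv_lhs => rw [← Nat.mod_add_div m 5, pow_add, pow_mul, hc, one_pow, mul_one]
    rfl
  rw [modp ha5 i, modp hb5 j] at hy
  have hne : (Fin.ofNat 5 i : Fin 5) ≠ 0 ∨ (Fin.ofNat 5 j : Fin 5) ≠ 0 := by
    by_contra h
    push Not at h
    rw [h.1, h.2] at hy
    simp at hy
    exact hx1 hy
  have fin : ∀ (w : List ℕ), w ∈ reps → ∀ s : Fin 5, s ≠ 0 → g⁻¹ * x * g = el w ^ (s : ℕ) →
      el w ^ 5 = 1 → ∃ w ∈ reps, ∃ g : HePres.pres.Gp, ∃ t : ℕ, g * el w * g⁻¹ = x ^ t := by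
    intro w hw s hs hws hw5
    obtain ⟨t, ht⟩ : ∃ t : Fin 5, s * t = 1 :=
      (by decide : ∀ s : Fin 5, s ≠ 0 → ∃ t : Fin 5, s * t = 1) s hs
    refine ⟨w, hw, g, t, ?_⟩
    calc g * el w * g⁻¹ = g * (el w ^ ((s * t : Fin 5) : ℕ)) * g⁻¹ := by rw [ht]; simp
      _ = g * (el w ^ ((s : ℕ) * t)) * g⁻¹ := by
        rw [modp hw5 ((s : ℕ) * t)]
        congr 3
      _ = (g * (g⁻¹ * x * g) * g⁻¹) ^ (t : ℕ) := by rw [pow_mul, ← hws, conj_pow]
      _ = x ^ (t : ℕ) := by group
  rcases exp_check _ _ hne with ⟨s, k, hs, e1, e2⟩ | ⟨s, hs, e1, e2⟩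
  · rw [e1, e2] at hy
    have hk : el (wa ++ (List.replicate (k : ℕ) wb).flatten) = a * b ^ (k : ℕ) := by
      rw [el_append, el_replicate]
    refine fin _ (List.mem_cons_of_mem _ (List.mem_map.2 ⟨k, List.mem_range.2 k.2, rfl⟩)) s hs ?_ ?_
    · rw [hy, hk, (show Commute a b from hab).pow_right _ |>.mul_pow, ← pow_mul, mul_comm (k : ℕ),
        modp hb5 ((s : ℕ) * k)]
      congr 2
    · rw [hk, (show Commute a b from hab).pow_right _ |>.mul_pow, ha5, one_mul, ← pow_mul, mul_comm,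
        pow_mul, hb5, one_pow]
  · rw [e1, e2] at hy
    simp at hy
    exact fin _ List.mem_cons_self s hs hy hb5

/-- An element of order seven fixes no point. -/
theorem seven_moves {b : HePres.pres.Gp} (hb : orderOf b = 7) (i : Fin 2058) : phi b i ≠ i := by
  intro hi
  have := HeMain.order_facts.1
  obtain ⟨F, -, hF⟩ := phi_coset
  obtain ⟨q, hq⟩ := F.surjective i
  induction q using Quotient.inductionOn' with
  | h y =>
    have hfix : b • (QuotientGroup.mk y : HePres.pres.Gp ⧸ HeMain.H) = QuotientGroup.mk y :=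
      F.injective (by rw [hF]; exact (congrArg (phi b) hq).trans (hi.trans hq.symm))
    rw [MulAction.Quotient.smul_mk, smul_eq_mul, QuotientGroup.eq] at hfix
    have hord : orderOf (⟨_, hfix⟩ : HeMain.H) = 7 := by
      rw [Subgroup.orderOf_mk, show (b * y)⁻¹ * y = MulAut.conj y⁻¹ b⁻¹ by simp [mul_assoc],
        MulEquiv.orderOf_eq, orderOf_inv, hb]
    have hd := orderOf_dvd_natCard (⟨_, hfix⟩ : HeMain.H)
    have hcard : Nat.card HeMain.H = 1958400 := by
      have h := HeMain.H.card_mul_index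
      rw [HeMain.H_index, HeMain.order_facts.2.1] at h
      omega
    rw [hord, hcard] at hd
    norm_num at hd

/-- The Held group has no element of order 35. -/
theorem no_thirtyfive (g : HePres.pres.Gp) : orderOf g ≠ 35 := by
  classical
  intro hg
  have := HeMain.order_facts.1
  have ha : orderOf (g ^ 7) = 5 := by rw [orderOf_pow, hg]; norm_num
  have hb : orderOf (g ^ 5) = 7 := by rw [orderOf_pow, hg]; norm_num
  obtain ⟨w, hw, c, t, hc⟩ := exists_rep ha
  have hwlt := lt_of_ok (List.all_eq_true.1 words_ok.1 w hw)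
  set b := c⁻¹ * g ^ 5 * c
  have hbo : orderOf b = 7 := by
    rw [show b = MulAut.conj c⁻¹ (g ^ 5) by simp [b], MulEquiv.orderOf_eq, hb]
  have hcomm : Commute (el w) b := by
    have h1 : el w = MulAut.conj c⁻¹ ((g ^ 7) ^ t) := by
      rw [← hc]; simp [mul_assoc]
    rw [h1, show b = MulAut.conj c⁻¹ (g ^ 5) by simp [b]]
    exact ((Commute.pow_pow_self g 7 5).pow_left t).map (MulAut.conj c⁻¹)
  let X := {i : Fin 2058 // phi (el w) i = i}
  have hpres : ∀ i, phi (el w) i = i → phi b (i : Fin 2058) ∈ {i | phi (el w) i = i} := by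
    intro i hi
    show phi (el w) (phi b i) = phi b i
    rw [← Equiv.Perm.mul_apply, ← map_mul, hcomm.eq, map_mul, Equiv.Perm.mul_apply, hi]
  let e : Equiv.Perm X := Equiv.ofBijective (fun i => ⟨phi b i.1, hpres i.1 i.2⟩)
    (Finite.injective_iff_bijective.1 fun i j h =>
      Subtype.ext ((phi b).injective (congrArg Subtype.val h)))
  have hpow : ∀ n, ∀ i : X, ((e ^ n) i).1 = phi (b ^ n) i.1 := by
    intro n
    induction n with
    | zero => intro i; simp
    | succ n ih =>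
      intro i
      rw [pow_succ', pow_succ', map_mul, Equiv.Perm.mul_apply, Equiv.Perm.mul_apply, ← ih]
      rfl
  have hE : IsPGroup 7 (Subgroup.zpowers e) := by
    rintro ⟨y, k, rfl⟩
    refine ⟨1, Subtype.ext ?_⟩
    have : e ^ 7 = 1 := Equiv.ext fun i => Subtype.ext (by
      rw [hpow, ← hbo, pow_orderOf_eq_one]; simp)
    rw [pow_one, SubmonoidClass.coe_pow, Subgroup.coe_one, ← zpow_natCast, ← zpow_mul, mul_comm,
      zpow_mul, zpow_natCast, this, one_zpow]
  have hfact : Fact (Nat.Prime 7) := ⟨by norm_num⟩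
  have hmod := hE.card_modEq_card_fixedPoints X
  have hempty : IsEmpty (MulAction.fixedPoints (Subgroup.zpowers e) X) := ⟨fun i => by
    have := i.2 ⟨e, Subgroup.mem_zpowers e⟩
    exact seven_moves hbo i.1.1 (congrArg Subtype.val this)⟩
  rw [@Nat.card_of_isEmpty (MulAction.fixedPoints (Subgroup.zpowers e) X) hempty, Nat.ModEq,
    Nat.zero_mod] at hmod
  have hX : Nat.card X = fixCount w := by
    rw [Nat.card_eq_fintype_card, Fintype.card_subtype, fixCount,
      ← List.toFinset_card_of_nodup (List.nodup_range.filter _)]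
    refine Finset.card_nbij (fun i => (i : ℕ)) (fun i hi => ?_) (fun i _ j _ h => Fin.ext h)
      fun n hn => ?_
    · simp only [Finset.coe_filter, Finset.mem_univ, true_and, Set.mem_ofPred_eq] at hi
      simp only [List.coe_toFinset, Set.mem_ofPred_eq, List.mem_filter, List.mem_range, i.2, true_and,
        Nat.beq_eq]
      rw [imgWd_eq w hwlt i]
      exact congrArg Fin.val hi
    · simp only [List.coe_toFinset, Set.mem_ofPred_eq, List.mem_filter, List.mem_range, Nat.beq_eq] at hn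
      refine ⟨⟨n, hn.1⟩, ?_, rfl⟩
      simp only [Finset.coe_filter, Finset.mem_univ, true_and, Set.mem_ofPred_eq]
      exact Fin.ext ((imgWd_eq w hwlt ⟨n, hn.1⟩).symm.trans hn.2)
  have h := List.all_eq_true.1 fix_ok w hw
  rw [← hX, hmod] at h
  exact Bool.false_ne_true h

end Cfsg.Agent.H25.Held.NoThirtyFive
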