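import Cfsg.Agent.H25.Held.Orbit

/-!
The generated group contains the normalisers of the two groups of order 64.
-/

set_option autoImplicit false
set_option maxRecDepth 100000

namespace Cfsg.Agent.H25.Held.Orbit

open Subgroup Cfsg.Agent.H98.Held Cfsg.Agent.H95.Held

universe u

/-- all labels of the pattern lie in the orbit -/
noncomputable def fullOK (L : List ℕ) (R : List ℕ) (m : ℕ) : Bool :=
  Nat.beq (L.getD 1 0) zT && (List.range 64).all fun j => !(inK m (cls (L.getD j 0))) ||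
    R.any fun i => Nat.beq i j

theorem full_L52 : fullOK aOne (iter (mapsA L52.spec) 6) 7 = true ∧
    fullOK aTwo (iter (mapsB L52.spec) 6) 7 = true := by decide +kernel

theorem full_M24 : fullOK aOne (iter (mapsA M24.spec) 6) 23 = true ∧
    fullOK aTwo (iter (mapsB M24.spec) 6) 23 = true := by decide +kernel

theorem full_He : fullOK aOne (iter (mapsA He.spec) 6) 31 = true ∧
    fullOK aTwo (iter (mapsB He.spec) 6) 31 = true := by decide +kernel

variable {G : Type u} [Group G] {B : Emb G} {S : Spec} {g : G}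

theorem normalizer_le_aux {L : List ℕ} (hL : Block L) {K : Subgroup G} (h : Lab (lab B L) K) {sk : ℕ}
    {P : ℕ → List ℕ} (hok : S.ok = true)
    (haff : ∀ l, l < 7 → l ≠ sk → Aff (lab B L) K (S.el B g l) fun i => (P l).getD i 64) {m : ℕ}
    (hm : ∀ k < 8, B.IsZ (rep k) ↔ inK m k = true)
    (hfull : fullOK L (iter (((List.range 7).filter fun l => !(Nat.beq l sk)).map P) 6) m = true) :
    normalizer (B.blockGrp L : Set G) ≤ gen B g := by
  intro n hn
  simp only [fullOK, Bool.and_eq_true, Bool.or_eq_true, Nat.beq_eq, List.all_eq_true, List.mem_range,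
    Bool.not_eq_true', List.any_eq_true] at hfull
  obtain ⟨hz, hfull⟩ := hfull
  have hzL : B.z ∈ B.blockGrp L :=
    (B.mem_blockGrp hL).2 ⟨L.getD 1 0, getD_mem64 hL.len (by norm_num), by rw [hz, B.lf_z]⟩
  obtain ⟨a, ha, hae⟩ := (B.mem_blockGrp hL).1 (((mem_normalizer_iff.1 hn) B.z).1 hzL)
  obtain ⟨j, hj, rfl⟩ : ∃ j, j < 64 ∧ L.getD j 0 = a := by
    obtain ⟨j, hj, e⟩ := List.getElem_of_mem ha
    exact ⟨j, hL.len ▸ hj, by rw [List.getD_eq_getElem _ _ hj, e]⟩
  obtain ⟨hg, h2⟩ := hL.sq _ ha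
  have hne : L.getD j 0 ≠ oneC := fun e => B.z_ne (conj_eq_one_iff.1 (by rw [← hae, e, B.lf_one]))
  obtain ⟨e, he, hea⟩ := mem_invTab hg h2 hne
  obtain ⟨-, -, -, -, -, -, hk, hcl⟩ := tab_spec he
  rw [hea] at hcl
  have hin : inK m (cls (L.getD j 0)) = true := by
    rw [hcl, ← hm _ hk, ← hcl, ← B.isZ_iff hg h2 hne]
    exact isConj_iff.2 ⟨n, hae.symm⟩
  rcases hfull j hj with h1 | ⟨i, hi, hij⟩
  · rw [hin] at h1; exact absurd h1 (by simp)
  · obtain ⟨-, x, hx, hxe⟩ := iter_conj h hok (by rw [lab, hz, B.lf_z]) haff 6 i hi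
    rw [hij, lab, hae] at hxe
    have hc : x⁻¹ * n ∈ centralizer ({B.z} : Set G) := mem_centralizer_singleton_iff.2 (by
      calc x⁻¹ * n * B.z = x⁻¹ * (n * B.z * n⁻¹) * n := by group
        _ = x⁻¹ * (x * B.z * x⁻¹) * n := by rw [hxe]
        _ = B.z * (x⁻¹ * n) := by group)
    have h3 : x * (x⁻¹ * n) ∈ gen B g := mul_mem hx (mem_sup_left hc)
    rwa [mul_inv_cancel_left] at h3

theorem normalizer_gA_le (hok : S.ok = true) (O : Outer B S g) {m : ℕ}
    (hm : ∀ k < 8, B.IsZ (rep k) ↔ inK m k = true) (hfull : fullOK aOne (iter (mapsA S) 6) m = true) :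
    normalizer (B.gA : Set G) ≤ gen B g :=
  normalizer_le_aux block_one.1 (locA B O.disjA).toLab hok (fun _ hl hs => affA_el hok O hl hs) hm hfull

theorem normalizer_gB_le (hok : S.ok = true) (O : Outer B S g) {m : ℕ}
    (hm : ∀ k < 8, B.IsZ (rep k) ↔ inK m k = true) (hfull : fullOK aTwo (iter (mapsB S) 6) m = true) :
    normalizer (B.gB : Set G) ≤ gen B g :=
  normalizer_le_aux block_two.1 (locB B O.disjB).toLab hok (fun _ hl hs => affB_el hok O hl hs) hm hfull

end Cfsg.Agent.H25.Held.Orbit
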