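import Cfsg.Agent.H95.Held.Specs
import Cfsg.Agent.H98.Held.Classify

/-!
Inside the group generated by the centraliser and the outer involution every class of the fusion pattern
is conjugate to the central involution: orbits of its label under the tabulated maps.
-/

set_option autoImplicit false
set_option maxRecDepth 100000

namespace Cfsg.Agent.H25.Held.Orbit

open Subgroup Cfsg.Agent.H98.Held Cfsg.Agent.H95.Held

universe u

/-- the image of a label under conjugation by an element acting by an affine map -/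
def cjL (p : List ℕ) (j : ℕ) : ℕ := p.getD 0 64 ^^^ p.getD j 64

/-- one round of images -/
def grow (P : List (List ℕ)) (R : List ℕ) : List ℕ :=
  (R ++ R.flatMap fun j => P.map fun p => cjL p j).eraseDups

/-- the labels reached in `n` rounds from the central involution (label 1) -/
def iter (P : List (List ℕ)) : ℕ → List ℕ
  | 0 => [1]
  | n + 1 => grow P (iter P n)

/-- the maps usable on the first side -/
def mapsA (S : Spec) : List (List ℕ) := ((List.range 7).filter fun l => !(Nat.beq l S.skipOne)).map S.pA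

/-- the maps usable on the second side -/
def mapsB (S : Spec) : List (List ℕ) := ((List.range 7).filter fun l => !(Nat.beq l S.skipTwo)).map S.pB

/-- every class of the pattern is met by one of the two orbits -/
noncomputable def coverOK (S : Spec) (m : ℕ) : Bool :=
  Nat.beq (aOne.getD 1 0) zT && Nat.beq (aTwo.getD 1 0) zT && (List.range 8).all fun k => !(inK m k) ||
    ((iter (mapsA S) 6).any fun j => Nat.blt j 64 && Nat.beq (cls (aOne.getD j 0)) k) ||
    ((iter (mapsB S) 6).any fun j => Nat.blt j 64 && Nat.beq (cls (aTwo.getD j 0)) k)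

theorem cover_L52 : coverOK L52.spec 7 = true := by decide +kernel

theorem cover_M24 : coverOK M24.spec 23 = true := by decide +kernel

theorem cover_He : coverOK He.spec 31 = true := by decide +kernel

theorem aff_conj {G : Type u} [Group G] {ι : ℕ → G} {K : Subgroup G} (h : Lab ι K) {x : G} {p : ℕ → ℕ}
    (hx : Aff ι K x p) {i : ℕ} (hi : i < 64) :
    p 0 ^^^ p i < 64 ∧ x * ι i * x⁻¹ = ι (p 0 ^^^ p i) := by
  obtain ⟨a, ha, k, -, rfl, hp, hk⟩ := hx
  have h0 := hk 0 (by norm_num)
  rw [h.zero, mul_one, mul_inv_cancel] at h0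
  have ha0 : a ^^^ p 0 = 0 :=
    (h.inj 0 (by norm_num) _ (xor_lt64 ha (hp 0 (by norm_num))) (h.zero.trans h0)).symm
  have hpa : p 0 = a := by
    have := congrArg (fun t => a ^^^ t) ha0
    simpa [xor_cancel_left'] using this
  refine ⟨xor_lt64 (hp 0 (by norm_num)) (hp i hi), ?_⟩
  calc ι a * k * ι i * (ι a * k)⁻¹ = ι a * (k * ι i * k⁻¹) * (ι a)⁻¹ := by group
    _ = ι (p 0 ^^^ p i) := by
      rw [hk i hi, h.inv ha, h.mul a ha _ (xor_lt64 ha (hp i hi)), xor_cancel_left',
        h.mul _ (hp i hi) a ha, hpa, Nat.xor_comm]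

variable {G : Type u} [Group G] {B : Emb G} {S : Spec} {g : G}

/-- the group generated by the centraliser and the outer involution -/
abbrev gen (B : Emb G) (g : G) : Subgroup G := centralizer ({B.z} : Set G) ⊔ closure {g}

theorem el_mem (h : S.ok = true) {l : ℕ} (hl : l < 7) : S.el B g l ∈ gen B g := by
  rcases eq_or_ne l S.out with rfl | hne
  · rw [Spec.el, if_pos rfl]; exact mem_sup_right (subset_closure rfl)
  · rw [Spec.el, if_neg hne]; exact mem_sup_left (B.lf_mem (S.ok_letter h hl hne).1)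

theorem iter_conj {L : List ℕ} {K : Subgroup G} (h : Lab (lab B L) K) {sk : ℕ} {P : ℕ → List ℕ}
    (hok : S.ok = true) (hz : lab B L 1 = B.z)
    (haff : ∀ l, l < 7 → l ≠ sk → Aff (lab B L) K (S.el B g l) fun i => (P l).getD i 64) :
    ∀ n, ∀ j ∈ iter (((List.range 7).filter fun l => !(Nat.beq l sk)).map P) n,
      j < 64 ∧ ∃ x ∈ gen B g, x * B.z * x⁻¹ = lab B L j := by
  intro n
  induction n with
  | zero =>
    intro j hj
    rw [iter, List.mem_singleton] at hj
    subst hj
    exact ⟨by norm_num, 1, one_mem _, by simp [hz]⟩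
  | succ n ih =>
    intro j hj
    rw [iter, grow, List.mem_eraseDups, List.mem_append] at hj
    rcases hj with hj | hj
    · exact ih j hj
    · obtain ⟨i, hi, hj⟩ := List.mem_flatMap.1 hj
      obtain ⟨p, hp, rfl⟩ := List.mem_map.1 hj
      obtain ⟨l, hl, rfl⟩ := List.mem_map.1 hp
      rw [List.mem_filter, List.mem_range, Bool.not_eq_true'] at hl
      obtain ⟨hi64, x, hx, he⟩ := ih i hi
      obtain ⟨hlt, hc⟩ := aff_conj h (haff l hl.1 (beq_ne.1 hl.2)) hi64
      refine ⟨hlt, S.el B g l * x, mul_mem (el_mem hok hl.1) hx, ?_⟩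
      show _ = lab B L ((P l).getD 0 64 ^^^ (P l).getD i 64)
      rw [← hc, ← he]
      group

/-- **The classes of the pattern are fused with the central involution inside the generated group.** -/
theorem conj_rep_mem (h : S.ok = true) (O : Outer B S g) {m : ℕ} (hc : coverOK S m = true) {k : ℕ}
    (hk : k < 8) (hm : inK m k = true) : ∃ x ∈ gen B g, x * B.z * x⁻¹ = B.lf (rep k) := by
  simp only [coverOK, Bool.and_eq_true, Bool.or_eq_true, Nat.beq_eq, List.all_eq_true, List.mem_range,
    Bool.not_eq_true', List.any_eq_true] at hc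
  obtain ⟨⟨hz1, hz2⟩, hcov⟩ := hc
  have fin : ∀ {L : List ℕ}, Block L → ∀ j, j < 64 → cls (L.getD j 0) = k →
      (∃ x ∈ gen B g, x * B.z * x⁻¹ = lab B L j) → ∃ x ∈ gen B g, x * B.z * x⁻¹ = B.lf (rep k) := by
    rintro L hL j hj hcl ⟨x, hx, he⟩
    obtain ⟨ha, ha2⟩ := hL.sq _ (getD_mem64 hL.len hj)
    have hne : L.getD j 0 ≠ oneC := fun e => by
      rw [lab, e, B.lf_one] at he
      exact B.z_ne (conj_eq_one_iff.1 he)
    obtain ⟨c, hcg, hce⟩ := B.conj_rep ha ha2 hne
    rw [hcl] at hce
    refine ⟨(B.lf c)⁻¹ * x, mul_mem (inv_mem (mem_sup_left (B.lf_mem hcg))) hx, ?_⟩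
    calc (B.lf c)⁻¹ * x * B.z * ((B.lf c)⁻¹ * x)⁻¹ = (B.lf c)⁻¹ * (x * B.z * x⁻¹) * B.lf c := by group
      _ = B.lf (rep k) := by rw [he, lab, ← hce]; group
  rcases hcov k hk with (h1 | ⟨j, hj, hj'⟩) | ⟨j, hj, hj'⟩
  · rw [hm] at h1; exact absurd h1 (by simp)
  · obtain ⟨hlt, hx⟩ := iter_conj (locA B O.disjA).toLab h (by rw [lab, hz1, B.lf_z])
      (fun l hl hs => affA_el h O hl hs) 6 j hj
    exact fin block_one.1 j hlt hj'.2 hx
  · obtain ⟨hlt, hx⟩ := iter_conj (locB B O.disjB).toLab h (by rw [lab, hz2, B.lf_z])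
      (fun l hl hs => affB_el h O hl hs) 6 j hj
    exact fin block_two.1 j hlt hj'.2 hx

end Cfsg.Agent.H25.Held.Orbit
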