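import Mathlib.GroupTheory.Perm.Cycle.Type
import Mathlib.GroupTheory.PGroup
import Mathlib.GroupTheory.Coset.Card
import Mathlib.Combinatorics.Pigeonhole

/-!
A proper subgroup that is strongly embedded at an involution with a 2-group centraliser contains an
abelian subgroup of order the index of that centraliser.
-/

set_option autoImplicit false

namespace Cfsg.Agent.H25.Held

open Subgroup

/-- Counting lemma for a strongly embedded subgroup. -/
theorem exists_abelian_of_se {X : Type*} [Group X] [Finite X] (H : Subgroup X) (hH : H ≠ ⊤) {w : X}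
    (hw : w ∈ H) (hw2 : w * w = 1) (hw1 : w ≠ 1)
    (hse : ∀ q ∈ H, q * q = 1 → q ≠ 1 → ∀ x : X, x * q * x⁻¹ ∈ H → x ∈ H)
    (hC : IsPGroup 2 (centralizer ({w} : Set X))) :
    ∃ D : Subgroup X, D ≤ H ∧ (∀ a ∈ D, ∀ b ∈ D, a * b = b * a) ∧
      Nat.card D * Nat.card (centralizer ({w} : Set X)) = Nat.card H := by
  classical
  have := Fintype.ofFinite X
  set C := centralizer ({w} : Set X)
  have hCH : C ≤ H := fun c hc => hse w hw hw2 hw1 c (by
    rw [mem_centralizer_singleton_iff.1 hc, mul_inv_cancel_right]; exact hw)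
  -- the conjugate of `w` attached to a coset of `C`
  let cj : X ⧸ C → X := fun q => Quotient.liftOn' q (fun x => x * w * x⁻¹) fun x y h => by
    have h1 := mem_centralizer_singleton_iff.1 (QuotientGroup.leftRel_apply.1 h)
    calc x * w * x⁻¹ = x * (w * (x⁻¹ * y)) * y⁻¹ := by group
      _ = x * ((x⁻¹ * y) * w) * y⁻¹ := by rw [h1]
      _ = y * w * y⁻¹ := by group
  have hinj : Function.Injective cj := by
    intro a b
    induction a using Quotient.inductionOn' with
    | h x =>
      induction b using Quotient.inductionOn' with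
      | h y =>
        intro h
        change x * w * x⁻¹ = y * w * y⁻¹ at h
        refine QuotientGroup.eq.2 (mem_centralizer_singleton_iff.2 ?_)
        calc x⁻¹ * y * w = x⁻¹ * (y * w * y⁻¹) * y := by group
          _ = x⁻¹ * (x * w * x⁻¹) * y := by rw [h]
          _ = w * (x⁻¹ * y) := by group
  have hsq : ∀ q, cj q * cj q = 1 := by
    intro q
    induction q using Quotient.inductionOn' with
    | h x =>
      change x * w * x⁻¹ * (x * w * x⁻¹) = 1
      calc _ = x * (w * w) * x⁻¹ := by group
        _ = 1 := by rw [hw2]; group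
  have hcj1 : ∀ q, cj q ≠ 1 := by
    intro q
    induction q using Quotient.inductionOn' with
    | h x => exact fun h => hw1 (conj_eq_one_iff.1 h)
  set out := Finset.univ.filter fun q : X ⧸ C => cj q ∉ H
  let ψ : X ⧸ C → X ⧸ H := fun q => QuotientGroup.mk (cj q)
  -- the members inside `H` are the cosets inside `H`
  have hin : (Finset.univ.filter fun q : X ⧸ C => ¬ cj q ∉ H).card * Nat.card C = Nat.card H := by
    have e : {q : X ⧸ C // cj q ∈ H} ≃ ↥H ⧸ C.subgroupOf H :=
      (Equiv.ofBijective (fun q : ↥H ⧸ C.subgroupOf H => (⟨Quotient.liftOn' q (fun h => (h : X ⧸ C))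
          (fun a b h => QuotientGroup.eq.2 (by
            have := mem_subgroupOf.1 (QuotientGroup.leftRel_apply.1 h)
            simpa using this)),
          by
            induction q using Quotient.inductionOn' with
            | h a => exact H.mul_mem (H.mul_mem a.2 hw) (H.inv_mem a.2)⟩ : {q : X ⧸ C // cj q ∈ H}))
        ⟨fun a b => by
          induction a using Quotient.inductionOn' with
          | h x =>
            induction b using Quotient.inductionOn' with
            | h y =>
              intro h
              have h' := QuotientGroup.eq.1 (congrArg Subtype.val h :)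
              exact QuotientGroup.eq.2 (mem_subgroupOf.2 (by simpa using h')),
        fun ⟨q, hq⟩ => by
          induction q using Quotient.inductionOn' with
          | h x => exact ⟨Quotient.mk'' ⟨x, hse w hw hw2 hw1 x hq⟩, rfl⟩⟩).symm
    have h1 := Nat.card_congr e
    rw [Nat.card_eq_fintype_card, Fintype.card_subtype] at h1
    simp only [not_not]
    rw [h1, ← (C.subgroupOf H).index_eq_card, Nat.card_congr (subgroupOfEquivOfLe hCH).symm.toEquiv,
      mul_comm, card_mul_index]
  set n := (Finset.univ.filter fun q : X ⧸ C => ¬ cj q ∉ H).card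
  have hnpos : 0 < n := Nat.pos_of_ne_zero fun h => by
    rw [h, zero_mul] at hin; exact (Nat.card_pos (α := H)).ne hin
  -- the members outside `H` are (N - 1) * n in number
  have hN : 2 ≤ H.index := Nat.succ_le_iff.2 (H.one_lt_index_of_ne_top hH)
  have hout : out.card + n = H.index * n := by
    rw [Finset.card_filter_add_card_filter_not, Finset.card_univ, ← Nat.card_eq_fintype_card,
      ← C.index_eq_card]
    refine Nat.eq_of_mul_eq_mul_right (Nat.card_pos (α := C)) ?_
    rw [mul_assoc, hin, index_mul_card, index_mul_card]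
  have hmaps : ∀ q ∈ out, ψ q ∈ (Finset.univ.erase ((1 : X) : X ⧸ H)) := by
    intro q hq
    refine Finset.mem_erase.2 ⟨fun h => (Finset.mem_filter.1 hq).2 ?_, Finset.mem_univ _⟩
    have := QuotientGroup.eq.1 h
    simpa using this
  have hne : (Finset.univ.erase ((1 : X) : X ⧸ H)).Nonempty := by
    rw [← Finset.card_pos, Finset.card_erase_of_mem (Finset.mem_univ _), Finset.card_univ,
      ← Nat.card_eq_fintype_card, ← H.index_eq_card]
    omega
  obtain ⟨y, hy, hfib⟩ := Finset.exists_le_card_fiber_of_mul_le_card_of_maps_to hmaps hne (n := n) (by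
    rw [Finset.card_erase_of_mem (Finset.mem_univ _), Finset.card_univ, ← Nat.card_eq_fintype_card,
      ← H.index_eq_card, Nat.sub_mul, one_mul]
    omega)
  set S := out.filter fun q => ψ q = y
  obtain ⟨q0, hq0⟩ := Finset.card_pos.1 (lt_of_lt_of_le hnpos hfib)
  set t := cj q0 with ht_def
  have ht : t ∉ H := (Finset.mem_filter.1 (Finset.mem_filter.1 hq0).1).2
  have htinv : t⁻¹ = t := inv_eq_of_mul_eq_one_right (hsq q0)
  let D : Subgroup X := H ⊓ H.map (MulAut.conj t).toMonoidHom
  have hmemD : ∀ d, d ∈ D ↔ d ∈ H ∧ t * d * t ∈ H := by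
    intro d
    rw [Subgroup.mem_inf, mem_map_equiv, MulAut.conj_symm_apply, htinv]
  have hD2 : ∀ d ∈ D, d * d = 1 → d = 1 := by
    intro d hd hd2
    by_contra h
    exact ht (hse d ((hmemD d).1 hd).1 hd2 h t (by rw [htinv]; exact ((hmemD d).1 hd).2))
  -- `D` embeds in the cosets of `C` in `H`
  have hDle : Nat.card D ≤ n := by
    let f : D → (Finset.univ.filter fun q : X ⧸ C => ¬ cj q ∉ H) := fun d =>
      ⟨((d : X) : X ⧸ C), Finset.mem_filter.2 ⟨Finset.mem_univ _,
        not_not.2 (H.mul_mem (H.mul_mem ((hmemD _).1 d.2).1 hw) (H.inv_mem ((hmemD _).1 d.2).1))⟩⟩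
    refine (Nat.card_le_card_of_injective f fun a b h => ?_).trans (Nat.card_eq_finsetCard _).le
    have h' : ((a⁻¹ * b : D) : X) ∈ C := QuotientGroup.eq.1 (congrArg Subtype.val h :)
    obtain ⟨k, hk⟩ := hC ⟨_, h'⟩
    have hk' := congrArg Subtype.val hk
    rw [SubmonoidClass.coe_pow, Subgroup.coe_one] at hk'
    have : ∀ k : ℕ, ∀ d ∈ D, d ^ 2 ^ k = 1 → d = 1 := by
      intro k
      induction k with
      | zero => intro d _ h; simpa using h
      | succ k ih =>
        intro d hd h
        refine hD2 d hd ?_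
        rw [← pow_two]
        exact ih _ (D.pow_mem hd 2) (by rw [← pow_mul, ← pow_succ']; exact h)
    exact (inv_mul_eq_one.1 (Subtype.ext (this k _ (a⁻¹ * b).2 hk')))
  have hSD : ∀ q ∈ S, t * cj q ∈ D := by
    intro q hq
    have e : (t : X ⧸ H) = (cj q : X ⧸ H) :=
      (Finset.mem_filter.1 hq0).2.trans (Finset.mem_filter.1 hq).2.symm
    have h1 := QuotientGroup.eq.1 e
    rw [htinv] at h1
    refine (hmemD _).2 ⟨h1, ?_⟩
    have h2 := H.inv_mem h1
    rw [mul_inv_rev, htinv, inv_eq_of_mul_eq_one_right (hsq q)] at h2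
    rwa [← mul_assoc, hsq q0, one_mul]
  let g : S → D := fun q => ⟨t * cj q, hSD q q.2⟩
  have hginj : Function.Injective g := fun a b h =>
    Subtype.ext (hinj (mul_left_cancel (congrArg Subtype.val h :)))
  have hcardS : n ≤ Nat.card S := by rw [Nat.card_eq_finsetCard]; exact hfib
  have hSle := Nat.card_le_card_of_injective g hginj
  have hsurj : Function.Surjective g :=
    ((Nat.bijective_iff_injective_and_card g).2 ⟨hginj, by omega⟩).2
  have hinv : ∀ d ∈ D, t * d * t = d⁻¹ := by
    intro d hd
    obtain ⟨q, hq⟩ := hsurj ⟨d, hd⟩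
    have e : t * cj q = d := congrArg Subtype.val hq
    rw [← e, mul_inv_rev, htinv, inv_eq_of_mul_eq_one_right (hsq q), ← mul_assoc, hsq q0, one_mul]
  refine ⟨D, inf_le_left, fun a ha b hb => ?_, ?_⟩
  · have h := hinv _ (D.mul_mem ha hb)
    rw [mul_inv_rev, show t * (a * b) * t = t * a * (t * t) * b * t by rw [hsq q0]; group,
      show t * a * (t * t) * b * t = t * a * t * (t * b * t) by group, hinv a ha, hinv b hb] at h
    calc a * b = (b⁻¹ * a⁻¹)⁻¹ := by group
      _ = (a⁻¹ * b⁻¹)⁻¹ := by rw [h]
      _ = b * a := by group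
  · rw [show Nat.card D = n by omega]
    exact hin

end Cfsg.Agent.H25.Held
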