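import Cfsg.Agent.H98.Held.ClassTables

/-!
Table facts for the four-group of pure second class left over in the proof that the local subgroups
generate, in the case of the Held group.
-/

set_option autoImplicit false
set_option maxRecDepth 100000

namespace Cfsg.Agent.H25.Held.Resid

open Cfsg.Agent.H98.Held
open Cfsg.Agent.H45 (force)

/-- the first involution of the four-group -/
def uC : ℕ := 17045577

/-- the second involution of the four-group -/
def vC : ℕ := 17051723

/-- classes conjugate to the central involution in the Held case -/
noncomputable def isZc (a : ℕ) : Bool := inK 31 (cls a)

/-- the second class -/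
noncomputable def isUc (a : ℕ) : Bool := Nat.beq (cls a) 4 || Nat.beq (cls a) 5

/-- the involutions completing a representative to a four-group of pure second class -/
noncomputable def cand (k : ℕ) : List ℕ :=
  invCodes.filter fun v => commN v (rep k) && isUc v && isUc (mm (rep k) v)

/-- the four-group -/
noncomputable def vee (u v : ℕ) : List ℕ := [oneC, u, v, mm u v]

/-- no nontrivial translation of the coset of the central involution respects the classes -/
noncomputable def coreOK (k v : ℕ) : Bool :=
  [rep k, v, mm (rep k) v].all fun w => (vee (rep k) v).any fun x =>
    xor (isZc (mm zT x)) (isZc (mm (mm zT w) x))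

/-- candidates for square roots -/
noncomputable def qList (k : ℕ) : List ℕ := if k = 4 then invCodes ++ rootsFour else invCodes

/-- every coset of an involution modulo the four-group meets the first class -/
noncomputable def meetOK (k v : ℕ) : Bool :=
  (qList k).all fun q => !(commN q (rep k) && commN q v) || (vee (rep k) v).any (fun x => Nat.beq x q) ||
    (vee (rep k) v).any fun x => isZc (mm q x)

theorem cand_check : ([4, 5].all fun k => (cand k).all fun v => coreOK k v && meetOK k v) = true := by
  decide +kernel

/-- a witness that a matrix is singular -/
noncomputable def singOK (p : ℕ) : Bool := (List.range 31).any fun s => Nat.beq (mm (s + 1) p) 0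

theorem four_check : gdB uC uC = true ∧ gdB vC vC = true ∧ isUc uC = true ∧ isUc vC = true ∧
    isUc (mm uC vC) = true ∧ commN uC vC = true := by
  decide +kernel

theorem two_sweep : ((List.range 65536).all fun k => force (param k) fun p =>
    !(commN p uC && commN p vC) || (force (mm p p) fun q => Nat.beq (mm q q) oneC) || singOK p) = true := by
  decide +kernel

end Cfsg.Agent.H25.Held.Resid
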