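import Cfsg.Agent.H98.Held.Classify
import Cfsg.Agent.H25.Held.ResidLemma
import Cfsg.Agent.H25.Held.ResidTables

/-!
The centraliser of a four-group of pure second class lies in a subgroup containing the centraliser of
the central involution, when that subgroup controls fusion and has no element of order 35.
-/

set_option autoImplicit false
set_option linter.style.haveILetI false

namespace Cfsg.Agent.H25.Held.Resid

open Subgroup Cfsg.Agent.H98.Held

attribute [local irreducible] mm oneC zT invTab invCodes rootsFour cls rep uC vC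

universe u

variable {G : Type u} [Group G] (B : Emb G)

/-- The fusion pattern of the Held case. -/
abbrev HeFusion : Prop := ∀ k < 8, B.IsZ (rep k) ↔ inK 31 k = true

/-- Two commuting involutions generating a four-group without conjugates of the central involution. -/
structure Pure (u v : G) : Prop where
  su : u * u = 1
  sv : v * v = 1
  comm : u * v = v * u
  nu : u ≠ 1
  nv : v ≠ 1
  nuv : u * v ≠ 1
  zu : ¬ IsConj B.z u
  zv : ¬ IsConj B.z v
  zuv : ¬ IsConj B.z (u * v)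

/-- The elements of the four-group. -/
def four (u v : G) : List G := [1, u, v, u * v]

theorem isConj_conj_iff {z x : G} (g : G) : IsConj z (g * x * g⁻¹) ↔ IsConj z x :=
  ⟨fun h => h.trans (isConj_iff.2 ⟨g⁻¹, by group⟩), fun h => h.trans (isConj_iff.2 ⟨g, rfl⟩)⟩

theorem conj_cancel (g x : G) : g⁻¹ * (g * x * g⁻¹) * g = x := by group

theorem four_conj {u v x : G} (g : G) :
    g * x * g⁻¹ ∈ four (g * u * g⁻¹) (g * v * g⁻¹) ↔ x ∈ four u v := by
  have e : four (g * u * g⁻¹) (g * v * g⁻¹) = (four u v).map fun a => g * a * g⁻¹ := by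
    simp [four, mul_assoc]
  rw [e, List.mem_map]
  refine ⟨fun ⟨a, ha, h⟩ => ?_, fun h => ⟨x, h, rfl⟩⟩
  rwa [← conj_cancel g x, ← h, conj_cancel]

theorem exists_four_conj {u v y : G} (g : G) (hy : y ∈ four (g * u * g⁻¹) (g * v * g⁻¹)) :
    ∃ x ∈ four u v, g * x * g⁻¹ = y := by
  have e : four (g * u * g⁻¹) (g * v * g⁻¹) = (four u v).map fun a => g * a * g⁻¹ := by
    simp [four, mul_assoc]
  rw [e, List.mem_map] at hy
  exact hy

theorem Pure.conj {u v : G} (h : Pure B u v) (g : G) : Pure B (g * u * g⁻¹) (g * v * g⁻¹) := by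
  have e : g * u * g⁻¹ * (g * v * g⁻¹) = g * (u * v) * g⁻¹ := by group
  refine ⟨?_, ?_, ?_, ?_, ?_, ?_, ?_, ?_, ?_⟩
  · rw [show g * u * g⁻¹ * (g * u * g⁻¹) = g * (u * u) * g⁻¹ by group, h.su]; group
  · rw [show g * v * g⁻¹ * (g * v * g⁻¹) = g * (v * v) * g⁻¹ by group, h.sv]; group
  · rw [e, h.comm]; group
  · exact fun e1 => h.nu (conj_eq_one_iff.1 e1)
  · exact fun e1 => h.nv (conj_eq_one_iff.1 e1)
  · rw [e]; exact fun e1 => h.nuv (conj_eq_one_iff.1 e1)
  · rw [isConj_conj_iff]; exact h.zu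
  · rw [isConj_conj_iff]; exact h.zv
  · rw [e, isConj_conj_iff]; exact h.zuv

variable {B}

theorem isZc_iff (hZ : HeFusion B) {a : ℕ} (ha : Gd a) : isZc a = true ↔ IsConj B.z (B.lf a) := by
  have key : ∀ e ∈ invTab, e.1 = a → a ≠ oneC → (isZc a = true ↔ IsConj B.z (B.lf a)) := by
    intro e he hea hne
    obtain ⟨-, h2, -, -, -, -, hk, hcl⟩ := tab_spec he
    rw [hea] at h2 hcl
    rw [isZc, hcl, ← hZ _ hk, ← hcl]
    exact (B.isZ_iff ha h2 hne).symm
  constructor
  · intro h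
    have hc : cls a ≠ 8 := fun e => by rw [isZc, e] at h; simp [inK] at h
    have hne : a ≠ oneC := fun e => by
      have : isZc oneC = false := by decide +kernel
      rw [e, this] at h; exact Bool.false_ne_true h
    obtain ⟨e, he⟩ : ∃ e, (invTab.find? fun e => Nat.beq e.1 a) = some e := by
      cases h' : invTab.find? fun e => Nat.beq e.1 a with
      | none => exact absurd (by unfold cls; rw [h']) hc
      | some e => exact ⟨e, rfl⟩
    exact (key e (List.mem_of_find?_eq_some he)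
      (Nat.eq_of_beq_eq_true (List.find?_some (p := fun e : ℕ × ℕ × ℕ × ℕ => Nat.beq e.1 a) he)) hne).1 h
  · intro h
    obtain ⟨c, hc⟩ := isConj_iff.1 h
    have h2 : mm a a = oneC := (B.lf_sq_one ha).1 (by
      rw [← hc, show c * B.z * c⁻¹ * (c * B.z * c⁻¹) = c * (B.z * B.z) * c⁻¹ by group, B.z_sq]; group)
    have hne : a ≠ oneC := fun e => B.z_ne (by
      rw [e, B.lf_one] at hc; exact conj_eq_one_iff.1 hc)
    obtain ⟨e, he, hea⟩ := mem_invTab ha h2 hne
    exact (key e he hea hne).2 h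

theorem isUc_of (hZ : HeFusion B) {a : ℕ} (ha : Gd a) (h2 : mm a a = oneC) (hne : a ≠ oneC)
    (hz : ¬ IsConj B.z (B.lf a)) : isUc a = true := by
  obtain ⟨e, he, hea⟩ := mem_invTab ha h2 hne
  obtain ⟨-, -, -, -, -, -, hk, hcl⟩ := tab_spec he
  rw [hea] at hcl
  have h := _root_.mt (isZc_iff hZ ha).1 hz
  rw [isZc, hcl] at h
  rw [isUc, hcl]
  revert hk h
  generalize e.2.1 = k
  intro hk h
  interval_cases k <;> simp_all [inK, Nat.testBit]

/-- Reduction of a four-group inside the centraliser to a tabulated one. -/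
theorem exists_reduce (hZ : HeFusion B) {u v : G} (h : Pure B u v) (hu : u * B.z = B.z * u)
    (hv : v * B.z = B.z * v) : ∃ g : G, g * B.z * g⁻¹ = B.z ∧ ∃ k ∈ [4, 5], ∃ b ∈ cand k,
      Gd b ∧ g * u * g⁻¹ = B.lf (rep k) ∧ g * v * g⁻¹ = B.lf b := by
  obtain ⟨a, ha, rfl⟩ := B.exists_code hu
  have ha2 : mm a a = oneC := (B.lf_sq_one ha).1 h.su
  have ha1 : a ≠ oneC := fun e => h.nu ((B.lf_eq_one ha).2 e)
  have hau := isUc_of hZ ha ha2 ha1 h.zu
  obtain ⟨c, hc, hce⟩ := B.conj_rep ha ha2 ha1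
  have hk : cls a ∈ [4, 5] := by
    rw [isUc, Bool.or_eq_true, Nat.beq_eq, Nat.beq_eq] at hau
    simpa using hau
  have hk8 : cls a < 8 := by
    rcases List.mem_pair.1 hk with e | e <;> omega
  obtain ⟨g, hg_def⟩ : ∃ g, g = (B.lf c)⁻¹ := ⟨_, rfl⟩
  have hgz : g * B.z * g⁻¹ = B.z := by
    rw [hg_def, inv_inv, mul_assoc, ← B.lf_comm_z hc, inv_mul_cancel_left]
  have hgu : g * B.lf a * g⁻¹ = B.lf (rep (cls a)) := by
    rw [hg_def, inv_inv]; nth_rw 1 [← hce]; group
  have h' := h.conj B g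
  rw [hgu] at h'
  obtain ⟨b, hb, hbe⟩ := B.exists_code (g := g * v * g⁻¹) (by
    calc g * v * g⁻¹ * B.z = g * v * g⁻¹ * (g * B.z * g⁻¹) := by rw [hgz]
      _ = g * (v * B.z) * g⁻¹ := by group
      _ = g * (B.z * v) * g⁻¹ := by rw [hv]
      _ = (g * B.z * g⁻¹) * (g * v * g⁻¹) := by group
      _ = _ := by rw [hgz])
  rw [← hbe] at h'
  have hr := (rep_spec hk8).1
  refine ⟨g, hgz, cls a, hk, b, ?_, hb, hgu, hbe.symm⟩
  have hb2 : mm b b = oneC := (B.lf_sq_one hb).1 h'.sv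
  have hb1 : b ≠ oneC := fun e => h'.nv ((B.lf_eq_one hb).2 e)
  have hp := hr.mul hb
  have hp2 : mm (mm (rep (cls a)) b) (mm (rep (cls a)) b) = oneC := (B.lf_sq_one hp).1 (by
    rw [B.lf_mul hr hb, mul_assoc, ← mul_assoc (B.lf b), ← h'.comm, mul_assoc _ (B.lf b), h'.sv,
      mul_one, h'.su])
  have hp1 : mm (rep (cls a)) b ≠ oneC := fun e => h'.nuv (by rw [← B.lf_mul hr hb, e, B.lf_one])
  obtain ⟨e, he, hee⟩ := mem_invTab hb hb2 hb1
  refine List.mem_filter.2 ⟨by rw [invCodes]; exact List.mem_map.2 ⟨e, he, hee⟩, ?_⟩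
  rw [Bool.and_eq_true, Bool.and_eq_true, commN, Nat.beq_eq]
  exact ⟨⟨((B.lf_comm hb hr).1 h'.comm.symm), isUc_of hZ hb hb2 hb1 h'.zv⟩,
    isUc_of hZ hp hp2 hp1 (by rw [B.lf_mul hr hb]; exact h'.zuv)⟩

theorem cand_spec {k b : ℕ} (hk : k ∈ [4, 5]) (hb : b ∈ cand k) :
    k < 8 ∧ coreOK k b = true ∧ meetOK k b = true := by
  have h := List.all_eq_true.1 (List.all_eq_true.1 cand_check k hk) b hb
  rw [Bool.and_eq_true] at h
  exact ⟨by rcases List.mem_pair.1 hk with e | e <;> omega, h⟩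

theorem vee_spec (B : Emb G) {a b : ℕ} (ha : Gd a) (hb : Gd b) :
    (∀ c ∈ vee a b, Gd c ∧ B.lf c ∈ four (B.lf a) (B.lf b)) ∧
      ∀ x ∈ four (B.lf a) (B.lf b), ∃ c ∈ vee a b, B.lf c = x := by
  constructor
  · intro c hc
    simp only [vee, List.mem_cons, List.not_mem_nil, or_false] at hc
    rcases hc with rfl | rfl | rfl | rfl <;> simp [four, gd_one, ha, hb, ha.mul hb, B.lf_one, B.lf_mul]
  · intro x hx
    simp only [four, List.mem_cons, List.not_mem_nil, or_false] at hx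
    rcases hx with rfl | rfl | rfl | rfl
    exacts [⟨oneC, by simp [vee], B.lf_one⟩, ⟨a, by simp [vee], rfl⟩, ⟨b, by simp [vee], rfl⟩,
      ⟨mm a b, by simp [vee], B.lf_mul ha hb⟩]

theorem core_loc (hZ : HeFusion B) {u v : G} (h : Pure B u v) (hu : u * B.z = B.z * u)
    (hv : v * B.z = B.z * v) {w : G} (hw : w ∈ four u v) (hw1 : w ≠ 1) :
    ∃ x ∈ four u v, ¬ (IsConj B.z (B.z * x) ↔ IsConj B.z (B.z * w * x)) := by
  obtain ⟨g, hgz, k, hk, b, hbc, hb, eu, ev⟩ := exists_reduce hZ h hu hv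
  obtain ⟨hk8, hcore, -⟩ := cand_spec hk hbc
  have hr := (rep_spec hk8).1
  have hw' := (four_conj g).2 hw
  rw [eu, ev] at hw'
  obtain ⟨vc, hvc, hvce⟩ := (vee_spec B hr hb).2 _ hw'
  have hvm : vc ∈ [rep k, b, mm (rep k) b] := by
    simp only [vee, List.mem_cons, List.not_mem_nil, or_false] at hvc ⊢
    refine hvc.resolve_left fun e => hw1 ?_
    rw [e, B.lf_one] at hvce
    exact conj_eq_one_iff.1 hvce.symm
  obtain ⟨c, hc, hx⟩ := List.any_eq_true.1 (List.all_eq_true.1 hcore vc hvm)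
  obtain ⟨hcg, hc4⟩ := (vee_spec B hr hb).1 c hc
  have hvg := ((vee_spec B hr hb).1 vc hvc).1
  rw [← eu, ← ev] at hc4
  obtain ⟨x, hxm, hxe⟩ := exists_four_conj g hc4
  refine ⟨x, hxm, fun hiff => ?_⟩
  have e1 : IsConj B.z (B.z * x) ↔ isZc (mm zT c) = true := by
    rw [isZc_iff hZ (gd_zT.mul hcg), B.lf_mul gd_zT hcg, B.lf_z, ← isConj_conj_iff g,
      show g * (B.z * x) * g⁻¹ = g * B.z * g⁻¹ * (g * x * g⁻¹) by group, hgz, hxe]
  have e2 : IsConj B.z (B.z * w * x) ↔ isZc (mm (mm zT vc) c) = true := by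
    rw [isZc_iff hZ ((gd_zT.mul hvg).mul hcg), B.lf_mul (gd_zT.mul hvg) hcg, B.lf_mul gd_zT hvg,
      B.lf_z, ← isConj_conj_iff g,
      show g * (B.z * w * x) * g⁻¹ = g * B.z * g⁻¹ * (g * w * g⁻¹) * (g * x * g⁻¹) by group,
      hgz, hxe, hvce]
  rw [e1, e2] at hiff
  revert hx hiff
  cases isZc (mm zT c) <;> cases isZc (mm (mm zT vc) c) <;> simp

theorem meet_loc0 (hZ : HeFusion B) {u v : G} (h : Pure B u v) (hu : u * B.z = B.z * u)
    (hv : v * B.z = B.z * v) {q : G} (hq : q * B.z = B.z * q) (hqu : q * u = u * q)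
    (hqv : q * v = v * q) (hq2 : q * q = 1 ∨ q * q = u) (hq4 : q ∉ four u v) :
    ∃ x ∈ four u v, IsConj B.z (q * x) := by
  obtain ⟨g, hgz, k, hk, b, hbc, hb, eu, ev⟩ := exists_reduce hZ h hu hv
  obtain ⟨hk8, -, hmeet⟩ := cand_spec hk hbc
  have hr := (rep_spec hk8).1
  have tr : ∀ {x y : G}, x * y = y * x → g * x * g⁻¹ * (g * y * g⁻¹) = g * y * g⁻¹ * (g * x * g⁻¹) :=
    fun {x y} e => by
      rw [show g * x * g⁻¹ * (g * y * g⁻¹) = g * (x * y) * g⁻¹ by group, e]; group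
  obtain ⟨a, ha, hae⟩ := B.exists_code (g := g * q * g⁻¹) (by
    have := tr hq; rwa [hgz] at this)
  have hau : mm a (rep k) = mm (rep k) a := (B.lf_comm ha hr).1 (by rw [hae, ← eu]; exact tr hqu)
  have hav : mm a b = mm b a := (B.lf_comm ha hb).1 (by rw [hae, ← ev]; exact tr hqv)
  have hnot : ∀ c ∈ vee (rep k) b, c ≠ a := fun c hc e => hq4 ((four_conj g).1 (by
    rw [eu, ev, ← hae, ← e]; exact ((vee_spec B hr hb).1 c hc).2))
  have hql : a ∈ qList k := by
    rcases hq2 with e | e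
    · have h2 : mm a a = oneC := (B.lf_sq_one ha).1 (by
        rw [hae, show g * q * g⁻¹ * (g * q * g⁻¹) = g * (q * q) * g⁻¹ by group, e]; group)
      have h1 : a ≠ oneC := (hnot oneC (by simp [vee])).symm
      obtain ⟨t, ht, hte⟩ := mem_invTab ha h2 h1
      have hmem : a ∈ invCodes := by rw [invCodes]; exact List.mem_map.2 ⟨t, ht, hte⟩
      unfold qList
      split
      exacts [List.mem_append_left _ hmem, hmem]
    · have h2 : mm a a = rep k := B.lf_inj (ha.mul ha) hr (by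
        rw [B.lf_mul ha ha, hae, show g * q * g⁻¹ * (g * q * g⁻¹) = g * (q * q) * g⁻¹ by group, e, eu])
      rcases List.mem_pair.1 hk with rfl | rfl
      · exact List.mem_append_right _ ((sweep ha.isC).2.2.1 h2)
      · exact absurd h2 (sweep ha.isC).2.2.2
  have := List.all_eq_true.1 hmeet a hql
  rw [Bool.or_eq_true, Bool.or_eq_true] at this
  rcases this with (h1 | h1) | h1
  · rw [Bool.not_eq_true', commN, commN, hau, hav, Nat.beq_refl, Nat.beq_refl] at h1
    exact Bool.noConfusion h1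
  · obtain ⟨c, hc, e⟩ := List.any_eq_true.1 h1
    exact absurd (Nat.eq_of_beq_eq_true e) (hnot c hc)
  · obtain ⟨c, hc, e⟩ := List.any_eq_true.1 h1
    obtain ⟨hcg, hc4⟩ := (vee_spec B hr hb).1 c hc
    rw [← eu, ← ev] at hc4
    obtain ⟨x, hxm, hxe⟩ := exists_four_conj g hc4
    refine ⟨x, hxm, ?_⟩
    have := (isZc_iff hZ (ha.mul hcg)).1 e
    rw [B.lf_mul ha hcg, hae, ← hxe, show g * q * g⁻¹ * (g * x * g⁻¹) = g * (q * x) * g⁻¹ by group,
      isConj_conj_iff] at this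
    exact this

theorem meet_loc (hZ : HeFusion B) {u v : G} (h : Pure B u v) (hu : u * B.z = B.z * u)
    (hv : v * B.z = B.z * v) {q : G} (hq : q * B.z = B.z * q) (hqu : q * u = u * q)
    (hqv : q * v = v * q) (hq2 : q * q ∈ four u v) (hq4 : q ∉ four u v) :
    ∃ x ∈ four u v, IsConj B.z (q * x) := by
  have euv : u * v * v = u := by rw [mul_assoc, h.sv, mul_one]
  simp only [four, List.mem_cons, List.not_mem_nil, or_false] at hq2
  rcases hq2 with e | e | e | e
  · exact meet_loc0 hZ h hu hv hq hqu hqv (Or.inl e) hq4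
  · exact meet_loc0 hZ h hu hv hq hqu hqv (Or.inr e) hq4
  · have hp : Pure B v u := ⟨h.sv, h.su, h.comm.symm, h.nv, h.nu, h.comm ▸ h.nuv, h.zv, h.zu,
      h.comm ▸ h.zuv⟩
    have hperm : ∀ x, x ∈ four v u ↔ x ∈ four u v := fun x => by simp [four, h.comm]; tauto
    obtain ⟨x, hx, hxz⟩ := meet_loc0 hZ hp hv hu hq hqv hqu (Or.inr e) (fun m => hq4 ((hperm q).1 m))
    exact ⟨x, (hperm x).1 hx, hxz⟩
  · have hp : Pure B (u * v) v := ⟨by
        rw [mul_assoc, ← mul_assoc v, ← h.comm, euv, h.su], h.sv, by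
        rw [euv, ← mul_assoc, ← h.comm, euv], h.nuv, h.nv, by rw [euv]; exact h.nu, h.zuv, h.zv,
      by rw [euv]; exact h.zu⟩
    have hperm : ∀ x, x ∈ four (u * v) v ↔ x ∈ four u v := fun x => by simp [four, euv]; tauto
    obtain ⟨x, hx, hxz⟩ := meet_loc0 hZ hp (by rw [mul_assoc, hv, ← mul_assoc, hu, mul_assoc]) hv hq
      (by rw [← mul_assoc, hqu, mul_assoc, hqv, ← mul_assoc]) hqv (Or.inr e)
      (fun m => hq4 ((hperm q).1 m))
    exact ⟨x, (hperm x).1 hx, hxz⟩

theorem comm_conj {g x y : G} (e : x * y = y * x) :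
    g * x * g⁻¹ * (g * y * g⁻¹) = g * y * g⁻¹ * (g * x * g⁻¹) := by
  rw [show g * x * g⁻¹ * (g * y * g⁻¹) = g * (x * y) * g⁻¹ by group, e]; group

theorem comm_four {u v y x : G} (hu : y * u = u * y) (hv : y * v = v * y) (hx : x ∈ four u v) :
    y * x = x * y := by
  simp only [four, List.mem_cons, List.not_mem_nil, or_false] at hx
  rcases hx with rfl | rfl | rfl | rfl
  exacts [by simp, hu, hv, by rw [← mul_assoc, hu, mul_assoc, hv, ← mul_assoc]]

/-- An element centralising the four-group and normalising a coset of it centralises the first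
class element of that coset. -/
theorem core_gen (hZ : HeFusion B) {u v : G} (h : Pure B u v) {j : G} (hj : IsConj B.z j)
    (hju : j * u = u * j) (hjv : j * v = v * j) {y : G} (hyu : y * u = u * y) (hyv : y * v = v * y)
    {x : G} (hx : x ∈ four u v) (he : y * j * y⁻¹ = j * x) : y * j = j * y := by
  by_cases hx1 : x = 1
  · rw [hx1, mul_one] at he
    calc y * j = y * j * y⁻¹ * y := by group
      _ = _ := by rw [he]
  exfalso
  obtain ⟨g, hg⟩ := isConj_iff.1 hj.symm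
  obtain ⟨x', hx', hne⟩ := core_loc hZ (h.conj B g) (by rw [← hg]; exact (comm_conj hju).symm)
    (by rw [← hg]; exact (comm_conj hjv).symm) ((four_conj g).2 hx)
    (fun e => hx1 (conj_eq_one_iff.1 e))
  obtain ⟨x0, hx0, rfl⟩ := exists_four_conj g hx'
  refine hne ?_
  rw [show B.z * (g * x0 * g⁻¹) = g * (j * x0) * g⁻¹ by rw [← hg]; group,
    show B.z * (g * x * g⁻¹) * (g * x0 * g⁻¹) = g * (j * x * x0) * g⁻¹ by rw [← hg]; group,
    isConj_conj_iff, isConj_conj_iff, ← isConj_conj_iff y,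
    show y * (j * x0) * y⁻¹ = y * j * y⁻¹ * (y * x0 * y⁻¹) by group, he, comm_four hyu hyv hx0,
    mul_inv_cancel_right]

/-- A coset of square in the four-group met with the centraliser of a first class element contains a
first class element. -/
theorem meet_gen (hZ : HeFusion B) {u v : G} (h : Pure B u v) {j : G} (hj : IsConj B.z j)
    (hju : j * u = u * j) (hjv : j * v = v * j) {q : G} (hqj : q * j = j * q) (hqu : q * u = u * q)
    (hqv : q * v = v * q) (hq2 : q * q ∈ four u v) (hq4 : q ∉ four u v) :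
    ∃ x ∈ four u v, IsConj B.z (q * x) := by
  obtain ⟨g, hg⟩ := isConj_iff.1 hj.symm
  obtain ⟨x', hx', hz⟩ := meet_loc hZ (h.conj B g) (by rw [← hg]; exact (comm_conj hju).symm)
    (by rw [← hg]; exact (comm_conj hjv).symm) (q := g * q * g⁻¹)
    (by rw [← hg]; exact comm_conj hqj) (comm_conj hqu) (comm_conj hqv)
    (by rw [show g * q * g⁻¹ * (g * q * g⁻¹) = g * (q * q) * g⁻¹ by group, four_conj]; exact hq2)
    (fun m => hq4 ((four_conj g).1 m))
  obtain ⟨x, hx, rfl⟩ := exists_four_conj g hx'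
  rw [show g * q * g⁻¹ * (g * x * g⁻¹) = g * (q * x) * g⁻¹ by group, isConj_conj_iff] at hz
  exact ⟨x, hx, hz⟩

variable (B)

theorem pure_four (hZ : HeFusion B) : Pure B (B.lf uC) (B.lf vC) := by
  obtain ⟨gu, gv, cu, cv, cuv, hc⟩ := four_check
  have hgu := gd_of_gdB gu
  have hgv := gd_of_gdB gv
  simp only [gdB, Bool.and_eq_true, Nat.beq_eq] at gu gv
  rw [commN, Nat.beq_eq] at hc
  have key : ∀ {a : ℕ}, Gd a → isUc a = true → B.lf a ≠ 1 ∧ ¬ IsConj B.z (B.lf a) := by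
    intro a ha hu
    rw [isUc, Bool.or_eq_true, Nat.beq_eq, Nat.beq_eq] at hu
    refine ⟨fun e => ?_, fun e => ?_⟩
    · have h1 : cls oneC = 8 := by decide +kernel
      rw [(B.lf_eq_one ha).1 e, h1] at hu
      omega
    · have := (isZc_iff hZ ha).2 e
      rw [isZc] at this
      rcases hu with h | h <;> rw [h] at this <;> simp [inK] at this
  exact ⟨(B.lf_sq_one hgu).2 gu.1.2, (B.lf_sq_one hgv).2 gv.1.2, (B.lf_comm hgu hgv).2 hc,
    (key hgu cu).1, (key hgv cv).1, B.lf_mul hgu hgv ▸ (key (hgu.mul hgv) cuv).1, (key hgu cu).2,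
    (key hgv cv).2, B.lf_mul hgu hgv ▸ (key (hgu.mul hgv) cuv).2⟩

theorem pow_four_of_comm {r : G} (hrz : r * B.z = B.z * r) (hru : r * B.lf uC = B.lf uC * r)
    (hrv : r * B.lf vC = B.lf vC * r) : r ^ 4 = 1 := by
  obtain ⟨a, ha, rfl⟩ := B.exists_code hrz
  obtain ⟨gu, gv, -⟩ := four_check
  have hu := gd_of_gdB gu
  have hv := gd_of_gdB gv
  obtain ⟨k, hk, hka⟩ := exists_param ha.isC
  have h := List.all_eq_true.1 two_sweep k (List.mem_range.2 hk)
  simp only [Cfsg.Agent.H45.force_eq, hka, commN, (B.lf_comm ha hu).1 hru, (B.lf_comm ha hv).1 hrv,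
    Nat.beq_refl, Bool.and_self, Bool.not_true, Bool.false_or, Bool.or_eq_true] at h
  rcases h with h | h
  · rw [Nat.beq_eq] at h
    rw [show 4 = 2 * 2 from rfl, pow_mul, pow_two, pow_two, ← B.lf_mul ha ha,
      ← B.lf_mul (ha.mul ha) (ha.mul ha), h, B.lf_one]
  · obtain ⟨s, hs, he⟩ := List.any_eq_true.1 h
    rw [Nat.beq_eq] at he
    exfalso
    obtain ⟨x, hx⟩ := ha
    have hzero : H98.Held.mt 0 = 0 := by ext i j; simp [H98.Held.mt, Cfsg.Agent.H45.J4Mat.toMat, Cfsg.Agent.H45.J4Mat.bz]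
    have h1 := congrArg H98.Held.mt he
    have hxa : H98.Held.mt a = ((x : Matrix.SpecialLinearGroup (Fin 5) (ZMod 2)) : M5) := by
      rw [← hx, cd, mt_code]
    rw [mt_mm, hzero, hxa] at h1
    have h2 := congrArg (fun M : M5 => M * ((x⁻¹ : C5) : Matrix.SpecialLinearGroup (Fin 5) (ZMod 2))) h1
    simp only [mul_assoc, zero_mul, InvMemClass.coe_inv] at h2
    rw [← Matrix.SpecialLinearGroup.coe_mul, mul_inv_cancel, Matrix.SpecialLinearGroup.coe_one,
      mul_one, ← hzero] at h2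
    have := mt_inj (lt_of_lt_of_le (Nat.succ_lt_succ (List.mem_range.1 hs)) (by norm_num)) (by norm_num) h2
    omega

theorem dihedral_conj {X : Type*} [Group X] {d w : X} (h : w * d * w⁻¹ = d⁻¹) (k : ℕ) :
    d ^ k * w * (d ^ k)⁻¹ = d ^ (2 * k) * w := by
  have h1 : w * (d ^ k)⁻¹ * w⁻¹ = d ^ k := by
    rw [← conj_inv, ← conj_pow, h, inv_pow, inv_inv]
  calc d ^ k * w * (d ^ k)⁻¹ = d ^ k * (w * (d ^ k)⁻¹ * w⁻¹) * w := by group
    _ = d ^ (2 * k) * w := by rw [h1, two_mul, pow_add]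

/-- **The residual four-group.** -/
theorem centralizer_four_le [Finite G] (hZ : HeFusion B) (G0 : Subgroup G)
    (hC : centralizer ({B.z} : Set G) ≤ G0)
    (hfus : ∀ x ∈ G0, IsConj B.z x → ∃ h ∈ G0, h * B.z * h⁻¹ = x)
    {x5 x7 : G} (h5 : orderOf x5 = 5) (h7 : orderOf x7 = 7) (m5 : x5 ∈ G0) (m7 : x7 ∈ G0)
    (c5 : x5 * B.lf uC = B.lf uC * x5 ∧ x5 * B.lf vC = B.lf vC * x5)
    (c7 : x7 * B.lf uC = B.lf uC * x7 ∧ x7 * B.lf vC = B.lf vC * x7)
    (h35 : ∀ g ∈ G0, orderOf g ≠ 35) :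
    centralizer ({B.lf uC, B.lf vC} : Set G) ≤ G0 := by
  classical
  set U := B.lf uC with hU
  set V := B.lf vC with hV
  have hP : Pure B U V := pure_four B hZ
  have hgu := gd_of_gdB four_check.1
  have hgv := gd_of_gdB four_check.2.1
  set M := centralizer ({U, V} : Set G) with hM
  have memM : ∀ {g : G}, g ∈ M ↔ g * U = U * g ∧ g * V = V * g := by
    intro g
    simp [hM, mem_centralizer_iff, eq_comm]
  by_contra hMG
  -- the four-group inside `M`
  have fmul : ∀ a ∈ four U V, ∀ b ∈ four U V, a * b ∈ four U V := by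
    have e1 : U * (U * V) = V := by rw [← mul_assoc, hP.su, one_mul]
    have e2 : V * (U * V) = U := by rw [← mul_assoc, ← hP.comm, mul_assoc, hP.sv, mul_one]
    have e3 : U * V * U = V := by rw [mul_assoc, ← hP.comm, e1]
    have e4 : U * V * V = U := by rw [mul_assoc, hP.sv, mul_one]
    have e5 : U * V * (U * V) = 1 := by rw [mul_assoc, e2, hP.su]
    intro a ha b hb
    simp only [four, List.mem_cons, List.not_mem_nil, or_false] at ha hb ⊢
    rcases ha with rfl | rfl | rfl | rfl <;> rcases hb with rfl | rfl | rfl | rfl <;>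
      simp [hP.su, hP.sv, e1, e2, e3, e4, e5, hP.comm.symm]
  have finv : ∀ a ∈ four U V, a⁻¹ = a := by
    have h5' : U * V * (U * V) = 1 := by
      rw [mul_assoc, ← mul_assoc V, ← hP.comm, mul_assoc U V, hP.sv, mul_one, hP.su]
    intro a ha
    simp only [four, List.mem_cons, List.not_mem_nil, or_false] at ha
    rcases ha with rfl | rfl | rfl | rfl
    exacts [inv_one, inv_eq_of_mul_eq_one_right hP.su, inv_eq_of_mul_eq_one_right hP.sv,
      inv_eq_of_mul_eq_one_right h5']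
  let F : Subgroup M :=
    { carrier := {y | (y : G) ∈ four U V}
      one_mem' := by simp [four]
      mul_mem' := fun {a b} ha hb => fmul _ ha _ hb
      inv_mem' := fun {a} ha => by
        show ((a⁻¹ : M) : G) ∈ four U V
        rw [InvMemClass.coe_inv, finv _ ha]
        exact ha }
  have : F.Normal := ⟨fun y hy g => by
    show ((g * y * g⁻¹ : M) : G) ∈ four U V
    push_cast
    rw [comm_four (memM.1 g.2).1 (memM.1 g.2).2 hy, mul_inv_cancel_right]
    exact hy⟩
  have h4G0 : ∀ x ∈ four U V, x ∈ G0 := by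
    intro x hx
    have hu : U ∈ G0 := hC (B.lf_mem hgu)
    have hv : V ∈ G0 := hC (B.lf_mem hgv)
    simp only [four, List.mem_cons, List.not_mem_nil, or_false] at hx
    rcases hx with rfl | rfl | rfl | rfl
    exacts [one_mem _, hu, hv, mul_mem hu hv]
  set π := QuotientGroup.mk' F with hπ
  set H := (G0.subgroupOf M).map π with hHdef
  have memH : ∀ {y : M}, π y ∈ H ↔ (y : G) ∈ G0 := by
    intro y
    refine ⟨fun h => ?_, fun h => mem_map_of_mem π (mem_subgroupOf.2 h)⟩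
    obtain ⟨y', hy', he⟩ := h
    obtain ⟨f, hf, rfl⟩ := (QuotientGroup.mk'_eq_mk' (N := F)).1 he
    simpa using mul_mem (mem_subgroupOf.1 hy') (h4G0 _ hf)
  have eqπ : ∀ {a b : M}, π a = π b ↔ ∃ x ∈ four U V, (b : G) = (a : G) * x := by
    intro a b
    rw [hπ, QuotientGroup.mk'_eq_mk']
    constructor
    · rintro ⟨f, hf, rfl⟩; exact ⟨_, hf, by simp⟩
    · rintro ⟨x, hx, e⟩
      have hxM : x ∈ M := by
        rw [show x = (a : G)⁻¹ * (b : G) by rw [e]; group]
        exact mul_mem (inv_mem a.2) b.2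
      exact ⟨⟨x, hxM⟩, hx, Subtype.ext (by simp [e])⟩
  have hzM : B.z ∈ M := memM.2 ⟨(B.lf_comm_z hgu).symm, (B.lf_comm_z hgv).symm⟩
  have hzG0 : B.z ∈ G0 := hC (mem_centralizer_singleton_iff.2 rfl)
  set w := π ⟨B.z, hzM⟩ with hw_def
  have hz4 : B.z ∉ four U V := by
    intro h
    simp only [four, List.mem_cons, List.not_mem_nil, or_false] at h
    rcases h with h | h | h | h
    exacts [B.z_ne h, hP.zu (h ▸ IsConj.refl _), hP.zv (h ▸ IsConj.refl _), hP.zuv (h ▸ IsConj.refl _)]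
  have πone : ∀ {y : M}, π y = 1 ↔ (y : G) ∈ four U V := by
    intro y; rw [hπ, QuotientGroup.mk'_apply, QuotientGroup.eq_one_iff]; rfl
  have hw1 : w ≠ 1 := fun h => hz4 (πone.1 h)
  have hw2 : w * w = 1 := by
    rw [hw_def, ← map_mul]; refine πone.2 ?_
    simp [four, B.z_sq]
  have hwH : w ∈ H := memH.2 hzG0
  -- control of fusion
  have hK : ∀ t ∈ G0, IsConj B.z t → ∀ g : G, g * t * g⁻¹ ∈ G0 → g ∈ G0 := by
    intro t ht hc g hg
    obtain ⟨h1, h1m, e1⟩ := hfus t ht hc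
    obtain ⟨h2, h2m, e2⟩ := hfus _ hg ((isConj_conj_iff g).2 hc)
    have : h2⁻¹ * g * h1 ∈ G0 := hC (mem_centralizer_singleton_iff.2 (by
      calc h2⁻¹ * g * h1 * B.z = h2⁻¹ * (g * (h1 * B.z * h1⁻¹) * g⁻¹) * g * h1 := by group
        _ = h2⁻¹ * (h2 * B.z * h2⁻¹) * g * h1 := by rw [e1, e2]
        _ = B.z * (h2⁻¹ * g * h1) := by group))
    have := mul_mem (mul_mem h2m this) (inv_mem h1m)
    rwa [show h2 * (h2⁻¹ * g * h1) * h1⁻¹ = g by group] at this
  -- commutation with a first class element modulo the four-group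
  have hcomm : ∀ {y k : M}, IsConj B.z (k : G) → Commute (π y) (π k) →
      (y : G) * (k : G) = (k : G) * (y : G) := by
    intro y k hk hyk
    have he : π (y * k * y⁻¹) = π k := by
      rw [map_mul, map_mul, map_inv, hyk.eq, mul_inv_cancel_right]
    obtain ⟨x, hx, e⟩ := eqπ.1 he.symm
    exact core_gen hZ hP hk (memM.1 k.2).1 (memM.1 k.2).2 (memM.1 y.2).1 (memM.1 y.2).2 hx
      (by simpa using e)
  have hmeet : ∀ q : M, (q : G) ∈ G0 → π q * π q = 1 → π q ≠ 1 →
      ∃ x ∈ four U V, IsConj B.z ((q : G) * x) := by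
    intro q hq hq2 hq1
    obtain ⟨zM, hzdef⟩ : ∃ m : M, m = ⟨B.z, hzM⟩ := ⟨_, rfl⟩
    have hwz : π zM = w := by rw [hzdef, hw_def]
    obtain ⟨d, hd⟩ : ∃ d, d = π q * w := ⟨_, rfl⟩
    have hwd : w * d * w⁻¹ = d⁻¹ := by
      rw [hd, mul_inv_rev, inv_eq_of_mul_eq_one_right hq2, inv_eq_of_mul_eq_one_right hw2, mul_assoc,
        mul_assoc, hw2, mul_one]
    have hqd : π q = d * w := by rw [hd, mul_assoc, hw2, mul_one]
    rcases Nat.even_or_odd (orderOf d) with ⟨m, hm⟩ | ⟨m, hm⟩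
    · have hmpos : 0 < m := by have := orderOf_pos d; omega
      obtain ⟨cl, hcl⟩ : ∃ cl : M, cl = (q * zM) ^ m := ⟨_, rfl⟩
      have hπc : π cl = d ^ m := by rw [hcl, map_pow, map_mul, hwz, hd]
      have hc2 : d ^ m * d ^ m = 1 := by rw [← pow_add, ← hm, pow_orderOf_eq_one]
      have hcw : Commute (d ^ m) w := by
        have h1 : w * d ^ m * w⁻¹ = d ^ m := by
          rw [← conj_pow, hwd, inv_pow, inv_eq_of_mul_eq_one_right hc2]
        show d ^ m * w = w * d ^ m
        nth_rw 1 [← h1]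
        group
      have hclz : (cl : G) * B.z = B.z * cl := by
        have := hcomm (y := cl) (k := zM) (by rw [hzdef]) (by rw [hπc, hwz]; exact hcw)
        rwa [hzdef] at this
      have hc1 : π cl ≠ 1 := by
        rw [hπc]; exact pow_ne_one_of_lt_orderOf (by omega) (by omega)
      obtain ⟨x, hx, hxz⟩ := meet_gen hZ hP (IsConj.refl B.z) (memM.1 hzM).1 (memM.1 hzM).2 hclz
        (memM.1 cl.2).1 (memM.1 cl.2).2
        (by have := (πone (y := cl * cl)).1 (by rw [map_mul, hπc, hc2]); simpa using this)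
        (fun h => hc1 (πone.2 h))
      have hxM : x ∈ M := by
        simp only [four, List.mem_cons, List.not_mem_nil, or_false] at hx
        rcases hx with rfl | rfl | rfl | rfl
        · exact one_mem _
        · exact memM.2 ⟨rfl, hP.comm⟩
        · exact memM.2 ⟨hP.comm.symm, rfl⟩
        · exact mul_mem (memM.2 ⟨rfl, hP.comm⟩) (memM.2 ⟨hP.comm.symm, rfl⟩)
      let k : M := cl * ⟨x, hxM⟩
      have hπk : π k = d ^ m := by
        rw [map_mul, (πone (y := ⟨x, hxM⟩)).2 hx, mul_one, hπc]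
      have hqk := hcomm (y := q) (k := k) hxz (by
        rw [hπk, hqd]; exact ((Commute.refl d).pow_right m).mul_left hcw.symm)
      exact meet_gen hZ hP hxz (memM.1 k.2).1 (memM.1 k.2).2 hqk (memM.1 q.2).1 (memM.1 q.2).2
        (by have := (πone (y := q * q)).1 (by rw [map_mul, hq2]); simpa using this)
        (fun h => hq1 (πone.2 h))
    · have he : π ((q * zM) ^ (m + 1) * zM * ((q * zM) ^ (m + 1))⁻¹) = π q := by
        rw [map_mul, map_mul, map_inv, map_pow, map_mul, hwz, ← hd, dihedral_conj hwd,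
          show 2 * (m + 1) = orderOf d + 1 by omega, pow_succ, pow_orderOf_eq_one, one_mul, hqd]
      obtain ⟨x, hx, e⟩ := eqπ.1 he.symm
      refine ⟨x, hx, ?_⟩
      rw [← e, hzdef]
      push_cast
      exact isConj_iff.2 ⟨_, rfl⟩
  have hse : ∀ p ∈ H, p * p = 1 → p ≠ 1 → ∀ y : M ⧸ F, y * p * y⁻¹ ∈ H → y ∈ H := by
    intro p hp hp2 hp1 y hy
    obtain ⟨q, hq, rfl⟩ := hp
    obtain ⟨y, rfl⟩ := QuotientGroup.mk'_surjective F y
    obtain ⟨x, hx, hz⟩ := hmeet q (mem_subgroupOf.1 hq) hp2 hp1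
    rw [← map_inv, ← map_mul, ← map_mul, memH] at hy
    refine memH.2 (hK _ (mul_mem (mem_subgroupOf.1 hq) (h4G0 x hx)) hz _ ?_)
    have e : (y : G) * ((q : G) * x) * (y : G)⁻¹ = ((y * q * y⁻¹ : M) : G) * x := by
      push_cast
      simp only [mul_assoc]
      rw [← comm_four (show (y : G)⁻¹ * U = U * (y : G)⁻¹ from (memM.1 (inv_mem y.2)).1)
        (memM.1 (inv_mem y.2)).2 hx]
    rw [e]
    exact mul_mem hy (h4G0 x hx)
  have hC2 : IsPGroup 2 (centralizer ({w} : Set (M ⧸ F))) := by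
    rintro ⟨c, hc⟩
    refine ⟨2, Subtype.ext ?_⟩
    obtain ⟨y, rfl⟩ := QuotientGroup.mk'_surjective F c
    have hyz := hcomm (y := y) (k := ⟨B.z, hzM⟩) (IsConj.refl _) (mem_centralizer_singleton_iff.1 hc)
    rw [SubmonoidClass.coe_pow, ← map_pow, Subgroup.coe_one]
    have : y ^ 4 = 1 := Subtype.ext (by
      rw [SubmonoidClass.coe_pow, Subgroup.coe_one]
      exact pow_four_of_comm B hyz (memM.1 y.2).1 (memM.1 y.2).2)
    rw [show 2 ^ 2 = 4 from rfl, this, map_one]
  have hH : H ≠ ⊤ := fun h => hMG fun g hg =>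
    (memH (y := ⟨g, hg⟩)).1 (by rw [h]; trivial)
  obtain ⟨D, hDH, hDc, hDcard⟩ := exists_abelian_of_se H hH hwH hw2 hw1 hse hC2
  have hdiv : ∀ {x : G} {p : ℕ}, p.Prime → p ≠ 2 → orderOf x = p → x ∈ G0 →
      x * U = U * x ∧ x * V = V * x → p ∣ Nat.card D := by
    intro x p hp hp2 hx hxG hxc
    have hfp : Fact p.Prime := ⟨hp⟩
    obtain ⟨xM, hxM⟩ : ∃ m : M, m = ⟨x, memM.2 hxc⟩ := ⟨_, rfl⟩
    have hne : π xM ≠ 1 := fun h => by
      have h4 := πone.1 h
      rw [hxM] at h4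
      have : x * x = 1 := by
        have := finv x h4
        nth_rw 1 [← this]
        exact inv_mul_cancel x
      have hd : orderOf x ∣ 2 := orderOf_dvd_of_pow_eq_one (by rw [pow_two, this])
      rw [hx] at hd
      exact hp2 ((Nat.prime_dvd_prime_iff_eq hp Nat.prime_two).1 hd)
    have hord : orderOf (π xM) = p := by
      refine orderOf_eq_prime ?_ hne
      rw [← map_pow, show xM ^ p = 1 from Subtype.ext (by
        rw [SubmonoidClass.coe_pow, hxM, Subgroup.coe_one, ← hx, pow_orderOf_eq_one]), map_one]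
    have h1 : p ∣ Nat.card H := by
      have hm : π xM ∈ H := memH.2 (by rw [hxM]; exact hxG)
      rw [← hord, ← Subgroup.orderOf_mk (π xM) hm]
      exact orderOf_dvd_natCard _
    rw [← hDcard] at h1
    obtain ⟨n, hn⟩ := IsPGroup.iff_card.1 hC2
    rw [hn] at h1
    exact (Nat.Coprime.pow_right n ((Nat.coprime_primes hp Nat.prime_two).2 hp2)).dvd_of_dvd_mul_right h1
  have d5 := hdiv (by norm_num : Nat.Prime 5) (by norm_num) h5 m5 c5
  have d7 := hdiv (by norm_num : Nat.Prime 7) (by norm_num) h7 m7 c7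
  have : Fact (Nat.Prime 5) := ⟨by norm_num⟩
  have : Fact (Nat.Prime 7) := ⟨by norm_num⟩
  obtain ⟨a, ha⟩ := exists_prime_orderOf_dvd_card' 5 d5
  obtain ⟨b, hb⟩ := exists_prime_orderOf_dvd_card' 7 d7
  have hab : Commute a b := Subtype.ext (hDc a a.2 b b.2)
  have hord : orderOf (a * b) = 35 := by
    rw [hab.orderOf_mul_eq_mul_orderOf_of_coprime (by rw [ha, hb]; norm_num), ha, hb]
  obtain ⟨y, hy, hye⟩ := hDH (a * b).2
  have hd : 35 ∣ orderOf (y : G) := by
    rw [Subgroup.orderOf_coe, ← hord, ← Subgroup.orderOf_coe (a * b), ← hye]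
    exact orderOf_map_dvd π y
  exact h35 _ (pow_mem (mem_subgroupOf.1 hy) (orderOf (y : G) / 35))
    (orderOf_pow_orderOf_div (orderOf_pos _).ne' hd)

end Cfsg.Agent.H25.Held.Resid
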