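/-!
Generated words in the seven letters: the four-group and elements of orders 5 and 7 centralising it.
-/

set_option autoImplicit false

namespace Cfsg.Agent.H25.Held.Resid

/-- word of the first involution -/
def uW : List Nat := [0, 1, 2, 0, 2, 1]

/-- word of the second involution -/
def vW : List Nat := [0, 1, 3, 4, 0, 2, 4, 1]

/-- word of order 5 -/
def fiveW : List Nat := [5, 6, 4, 5, 4, 0, 4, 6, 4, 2, 0, 1, 2, 0, 2, 1, 2, 4, 6, 4, 0, 4, 5, 4, 6, 5, 0, 1, 2, 0, 2, 1,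
  5, 6, 4, 5, 4, 0, 4, 6, 4, 2, 0, 1, 2, 0, 2, 1, 6, 5, 3, 5, 4, 3, 2, 6, 6, 0, 6, 2, 0, 0, 1, 2,
  0, 2, 1, 0, 2, 6, 0, 6, 6, 2, 3, 4, 5, 3, 5, 6]

/-- word of order 7 -/
def sevenW : List Nat := [5, 6, 4, 5, 4, 0, 4, 6, 4, 2, 0, 1, 2, 0, 2, 1, 2, 4, 6, 4, 0, 4, 5, 4, 6, 5, 0, 1, 2, 0, 2, 1,
  5, 6, 4, 5, 4, 0, 4, 6, 4, 2, 0, 1, 2, 0, 2, 1, 2, 4, 6, 2, 6, 2, 0, 1, 2, 0, 2, 1, 2, 6, 2, 6,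
  4, 2, 0, 1, 2, 0, 2, 1, 2, 4, 6, 2, 6, 2, 0, 1, 2, 0, 2, 1, 2, 6, 2, 6, 4, 2, 0, 1, 2, 0, 2, 1,
  0, 5, 2, 1, 4, 3, 4, 4, 2, 4, 0, 1, 2, 0, 2, 1, 4, 2, 4, 4, 3, 4, 1, 2, 5, 0, 0, 1, 2, 0, 2, 1,
  1, 0, 6, 5, 0, 1, 2, 0, 2, 1, 5, 6, 0, 1, 0, 1, 2, 0, 2, 1, 1, 0, 6, 5, 0, 1, 2, 0, 2, 1, 5, 6,
  0, 1, 5, 6, 4, 5, 4, 0, 4, 6, 4, 2, 0, 1, 2, 0, 2, 1, 2, 4, 6, 4, 0, 4, 5, 4, 6, 5, 0, 1, 2, 0,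
  2, 1, 5, 6, 4, 5, 4, 0, 4, 6, 4, 2, 0, 1, 2, 0, 2, 1, 2, 4, 6, 2, 6, 2, 0, 1, 2, 0, 2, 1, 2, 6,
  2, 6, 4, 2, 0, 1, 2, 0, 2, 1, 2, 4, 6, 2, 6, 2, 0, 1, 2, 0, 2, 1, 2, 6, 2, 6, 4, 2, 0, 1, 2, 0,
  2, 1, 0, 5, 2, 1, 4, 3, 4, 4, 2, 4, 0, 1, 2, 0, 2, 1, 4, 2, 4, 4, 3, 4, 1, 2, 5, 0, 0, 1, 2, 0,
  2, 1, 1, 0, 6, 5, 0, 1, 2, 0, 2, 1, 5, 6, 0, 1, 0, 1, 2, 0, 2, 1, 1, 0, 6, 5, 0, 1, 2, 0, 2, 1,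
  5, 6, 0, 1]

/-- codes of the letters in the centraliser (the sixth letter is outside) -/
def letC : List Nat := [17111135, 17584211, 17068121, 19208283, 11106371, 0, 17524801]

end Cfsg.Agent.H25.Held.Resid
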