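import Cfsg.Agent.H25.Held.Resid
import Cfsg.Agent.H25.Held.ResidWords
import Cfsg.Agent.H25.Held.HeRel
import Cfsg.Agent.H25.Held.NoThirtyFive

/-!
The residual four-group of the Held case, for the subgroup generated by the seven letters.
-/

set_option autoImplicit false
set_option maxRecDepth 100000

namespace Cfsg.Agent.H25.Held.Resid

open Subgroup Cfsg.Agent.H98.Held
open Cfsg.Agent.H45 (evalW evalW_append)
open Cfsg.Agent.H59.HeCentBase (sameBase sameBase_iff)

/-- the code of a word in the letters -/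
noncomputable def wordCode (w : List ℕ) : ℕ :=
  List.rec oneC (fun l _ ih => mm (letC.getD l 0) ih) w

theorem let_check : ((uW ++ vW).all fun l => !(Nat.beq l 5) && Nat.blt l 7 &&
      gdB (letC.getD l 0) (letC.getD l 0)) = true ∧
    Nat.beq (wordCode uW) uC = true ∧ Nat.beq (wordCode vW) vC = true := by
  decide +kernel

/-- the equation of two words in He -/
noncomputable def sameW (u v : List ℕ) : Bool :=
  (u ++ v).all (fun l => Nat.blt l 7) && sameBase (H45.expandW heImg u) (H45.expandW heImg v)

theorem word_check : sameW (fiveW ++ uW) (uW ++ fiveW) = true ∧ sameW (fiveW ++ vW) (vW ++ fiveW) = true ∧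
    sameW (sevenW ++ uW) (uW ++ sevenW) = true ∧ sameW (sevenW ++ vW) (vW ++ sevenW) = true ∧
    sameW (List.replicate 5 fiveW).flatten [] = true ∧ sameW (List.replicate 7 sevenW).flatten [] = true ∧
    sameW fiveW [] = false ∧ sameW sevenW [] = false ∧
    (fiveW.all fun l => Nat.blt l 7) = true ∧ (sevenW.all fun l => Nat.blt l 7) = true := by
  decide +kernel

universe u

variable {G : Type u} [Group G] (B : Emb G)

theorem evalW_code (e : ℕ → G) : ∀ (w : List ℕ),
    (∀ l ∈ w, e l = B.lf (letC.getD l 0) ∧ Gd (letC.getD l 0)) →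
      Gd (wordCode w) ∧ evalW e w = B.lf (wordCode w)
  | [], _ => ⟨gd_one, B.lf_one.symm⟩
  | l :: t, h => by
    obtain ⟨hl, ht⟩ := List.forall_mem_cons.1 h
    obtain ⟨ih1, ih2⟩ := evalW_code e t ht
    refine ⟨hl.2.mul ih1, ?_⟩
    show evalW e (l :: t) = B.lf (mm (letC.getD l 0) (wordCode t))
    rw [H45.evalW_cons, B.lf_mul hl.2 ih1, ih2, hl.1]

/-- **The residual four-group in the Held case.** If the letters inside the centraliser of `z` have their
tabulated codes, and the subgroup generated by the seven letters contains the centraliser of `z` and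
controls its fusion, then it contains the centraliser of the four-group of pure second class. -/
theorem centralizer_four_le_sub [Finite G] (hZ : HeFusion B) (e : ℕ → G)
    (hR : ∀ w ∈ heRels, evalW e w = 1) (he : ∀ l, l < 7 → l ≠ 5 → e l = B.lf (letC.getD l 0))
    (hC : centralizer ({B.z} : Set G) ≤ sub e 7)
    (hfus : ∀ x ∈ sub e 7, IsConj B.z x → ∃ h ∈ sub e 7, h * B.z * h⁻¹ = x) :
    centralizer ({B.lf uC, B.lf vC} : Set G) ≤ sub e 7 := by
  classical
  obtain ⟨hlet, huc, hvc⟩ := let_check
  have hcode : ∀ l ∈ uW ++ vW, e l = B.lf (letC.getD l 0) ∧ Gd (letC.getD l 0) := by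
    intro l hl
    have h := List.all_eq_true.1 hlet l hl
    simp only [Bool.and_eq_true, Bool.not_eq_true', H98.Held.beq_ne] at h
    exact ⟨he l (H45.blt_iff.1 h.1.2) h.1.1, gd_of_gdB h.2⟩
  obtain ⟨hgu, eU⟩ := evalW_code B e uW fun l hl => hcode l (List.mem_append_left _ hl)
  obtain ⟨-, eV⟩ := evalW_code B e vW fun l hl => hcode l (List.mem_append_right _ hl)
  rw [Nat.eq_of_beq_eq_true huc] at eU hgu
  rw [Nat.eq_of_beq_eq_true hvc] at eV
  have hne : ∃ l, l < 7 ∧ e l ≠ 1 := by
    by_contra h
    push Not at h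
    have h1 : ∀ g ∈ sub e 7, g = 1 := fun g hg => by
      induction hg using Subgroup.closure_induction with
      | mem x hx => obtain ⟨l, hl, rfl⟩ := hx; exact h l hl
      | one => rfl
      | mul x y _ _ hx hy => rw [hx, hy, one_mul]
      | inv x _ hx => rw [hx, inv_one]
    exact B.z_ne (h1 _ (hC (mem_centralizer_singleton_iff.2 rfl)))
  obtain ⟨f, hinj, hrange, hword⟩ := exists_hom e hR hne
  have heq : ∀ {a b : List ℕ}, sameW a b = true → evalW e a = evalW e b := by
    intro a b h
    rw [sameW, Bool.and_eq_true, List.all_eq_true] at h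
    have ha : ∀ l ∈ a, l < 7 := fun l hl => H45.blt_iff.1 (h.1 l (List.mem_append_left _ hl))
    have hb : ∀ l ∈ b, l < 7 := fun l hl => H45.blt_iff.1 (h.1 l (List.mem_append_right _ hl))
    rw [← hword a ha, ← hword b hb, (sameBase_iff (expand_lt a) (expand_lt b)).1 h.2]
  have hmem : ∀ w, (∀ l ∈ w, l < 7) → evalW e w ∈ sub e 7 := fun w hw => by
    rw [← hrange]; exact ⟨_, hword w hw⟩
  have hord : ∀ {w : List ℕ} {p : ℕ}, p.Prime → (w.all fun l => Nat.blt l 7) = true →
      sameW (List.replicate p w).flatten [] = true → sameW w [] = false → orderOf (evalW e w) = p := by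
    intro w p hp hw h1 h2
    have : Fact p.Prime := ⟨hp⟩
    have hrep : ∀ n, evalW e (List.replicate n w).flatten = evalW e w ^ n := by
      intro n
      induction n with
      | zero => simp [evalW]
      | succ n ih => rw [List.replicate_succ, List.flatten_cons, evalW_append, ih, pow_succ']
    refine orderOf_eq_prime (by rw [← hrep, heq h1]; rfl) fun h => ?_
    have hw' : ∀ l ∈ w, l < 7 := fun l hl => H45.blt_iff.1 (List.all_eq_true.1 hw l hl)
    have h3 : evalW H45.HePres.pres.e (H45.expandW heImg w) =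
        evalW H45.HePres.pres.e (H45.expandW heImg []) :=
      hinj (by rw [hword w hw', hword [] (by simp), h]; rfl)
    have : sameW w [] = true := by
      rw [sameW, Bool.and_eq_true, List.append_nil]
      exact ⟨hw, (sameBase_iff (expand_lt w) (expand_lt [])).2 h3⟩
    rw [h2] at this
    exact Bool.false_ne_true this
  have hcomm : ∀ {a b : List ℕ}, sameW (a ++ b) (b ++ a) = true →
      evalW e a * evalW e b = evalW e b * evalW e a := fun h => by
    rw [← evalW_append, ← evalW_append]; exact heq h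
  obtain ⟨c5u, c5v, c7u, c7v, p5, p7, n5, n7, l5, l7⟩ := word_check
  refine centralizer_four_le B hZ (sub e 7) hC hfus (hord (by norm_num) l5 p5 n5)
    (hord (by norm_num) l7 p7 n7) (hmem _ fun l hl => H45.blt_iff.1 (List.all_eq_true.1 l5 l hl))
    (hmem _ fun l hl => H45.blt_iff.1 (List.all_eq_true.1 l7 l hl))
    ⟨eU ▸ hcomm c5u, eV ▸ hcomm c5v⟩ ⟨eU ▸ hcomm c7u, eV ▸ hcomm c7v⟩ fun g hg => ?_
  rw [← hrange] at hg
  obtain ⟨y, rfl⟩ := hg
  rw [orderOf_injective f hinj]
  exact NoThirtyFive.no_thirtyfive y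

end Cfsg.Agent.H25.Held.Resid
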