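import Cfsg.Agent.H59.HeSp4

/-!
A copy of the Held group contains a subgroup with a symplectic subgroup `Sp₄(4)` of index two.
-/

set_option autoImplicit false

namespace Cfsg.Agent.H25.Held

theorem exists_spFour {G : Type*} [Group G] (h : Cfsg.Spor.IsoHe G) :
    ∃ (H : Subgroup G) (N : Subgroup H) (K : Type) (_ : Field K) (_ : Fintype K),
      N.Normal ∧ N.index = 2 ∧ Fintype.card K = 4 ∧ Nonempty (N ≃* Matrix.symplecticGroup (Fin 2) K) := by
  obtain ⟨e⟩ := h
  obtain ⟨N, hN, hidx, ⟨f⟩⟩ := H59.HeSp4.exists_sp4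
  let φ : H45.HePres.pres.Gp ≃* G := e.symm
  let ψ := H45.HeMain.H.equivMapOfInjective φ.toMonoidHom φ.injective
  refine ⟨H45.HeMain.H.map φ.toMonoidHom, N.map ψ.toMonoidHom, H59.HeSp4.F4, inferInstance, inferInstance,
    hN.map ψ.toMonoidHom ψ.surjective, ?_, H59.HeSp4.card_F4,
    ⟨(N.equivMapOfInjective ψ.toMonoidHom ψ.injective).symm.trans f⟩⟩
  exact (Subgroup.index_map_equiv N ψ).trans hidx

end Cfsg.Agent.H25.Held
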